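import Mathlib

/-!
Elementary tools for Jordan's counting argument.
-/

set_option autoImplicit false

namespace H18.BF

open Subgroup

universe u

variable {G : Type u} [Group G]

/-- Powers of a subgroup. -/
def powSub (A : Subgroup G) (k : ℕ) : Subgroup G :=
  Subgroup.closure ((fun a => a ^ k) '' (A : Set G))

theorem pow_mem_powSub {A : Subgroup G} {a : G} (ha : a ∈ A) (k : ℕ) : a ^ k ∈ powSub A k :=
  Subgroup.subset_closure ⟨a, ha, rfl⟩

theorem powSub_le (A : Subgroup G) (k : ℕ) : powSub A k ≤ A :=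
  (Subgroup.closure_le A).2 fun _ ⟨_, ha, h⟩ => h ▸ A.pow_mem ha k

theorem comm_of_mem {A : Subgroup G} (hA : IsMulCommutative A) {a b : G} (ha : a ∈ A) (hb : b ∈ A) :
    a * b = b * a :=
  congrArg Subtype.val (hA.is_comm.comm ⟨a, ha⟩ ⟨b, hb⟩)

theorem comm_of_le {A H : Subgroup G} (hA : IsMulCommutative A) (h : H ≤ A) : IsMulCommutative H :=
  ⟨⟨fun a b => Subtype.ext (comm_of_mem hA (h a.2) (h b.2))⟩⟩

theorem le_centralizer_of_mem {A : Subgroup G} (hA : IsMulCommutative A) {y : G} (hy : y ∈ A) :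
    A ≤ centralizer ({y} : Set G) := fun _ ha =>
  mem_centralizer_singleton_iff.2 (comm_of_mem hA ha hy)

theorem mem_centralizer_symm {x y : G} (h : x ∈ centralizer ({y} : Set G)) :
    y ∈ centralizer ({x} : Set G) :=
  mem_centralizer_singleton_iff.2 (mem_centralizer_singleton_iff.1 h).symm

/-- The power map on an abelian subgroup. -/
def powHom (A : Subgroup G) (hA : IsMulCommutative A) (k : ℕ) : A →* powSub A k where
  toFun a := ⟨(a : G) ^ k, pow_mem_powSub a.2 k⟩
  map_one' := Subtype.ext (one_pow k)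
  map_mul' a b := Subtype.ext ((show Commute (a : G) b from comm_of_mem hA a.2 b.2).mul_pow k)

theorem exists_of_mem_powSub {A : Subgroup G} (hA : IsMulCommutative A) {k : ℕ} {x : G}
    (hx : x ∈ powSub A k) : ∃ a ∈ A, a ^ k = x := by
  have h : powSub A k ≤ (powHom A hA k).range.map (powSub A k).subtype := by
    refine (Subgroup.closure_le _).2 ?_
    rintro _ ⟨a, ha, rfl⟩
    exact ⟨_, ⟨⟨a, ha⟩, rfl⟩, rfl⟩
  obtain ⟨_, ⟨a, rfl⟩, h⟩ := h hx
  exact ⟨a, a.2, h⟩

/-- An upper bound on the number of `k`-th roots of one in abelian subgroups. -/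
def RootBound (G : Type u) [Group G] (R : ℕ → ℕ) : Prop :=
  ∀ A : Subgroup G, IsMulCommutative A → ∀ k, 0 < k → Nat.card {a : G // a ∈ A ∧ a ^ k = 1} ≤ R k

variable [Finite G]

theorem card_le_powSub {R : ℕ → ℕ} (hR : RootBound G R) {A : Subgroup G} (hA : IsMulCommutative A)
    {k : ℕ} (hk : 0 < k) : Nat.card A ≤ R k * Nat.card (powSub A k) := by
  rw [← (powHom A hA k).ker.card_mul_index, Subgroup.index_ker]
  refine Nat.mul_le_mul (le_trans ?_ (hR A hA k hk)) (Subgroup.card_le_card_group _)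
  refine Nat.card_le_card_of_injective
    (fun a => ⟨((a : A) : G), (a : A).2, congrArg Subtype.val (MonoidHom.mem_ker.1 a.2)⟩) ?_
  intro a b h
  exact Subtype.ext (Subtype.ext (congrArg Subtype.val h :))

theorem exists_noncentral {R : ℕ → ℕ} (hR : RootBound G R) {A : Subgroup G}
    (hA : IsMulCommutative A) {k : ℕ} (hk : 0 < k)
    (h : R k * Nat.card (center G) < Nat.card A) : ∃ x ∈ powSub A k, x ∉ center G := by
  by_contra hn
  push Not at hn
  have h1 := card_le_powSub hR hA hk
  have h2 := Nat.mul_le_mul_left (R k) (Subgroup.card_le_of_le (fun x hx => hn x hx : powSub A k ≤ center G))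
  omega

theorem card_eq_inf_mul_relIndex (A H : Subgroup G) :
    Nat.card H = Nat.card ↥(A ⊓ H) * A.relIndex H := by
  have h := Subgroup.relIndex_mul_relIndex ⊥ (A ⊓ H) H bot_le inf_le_right
  rw [Subgroup.relIndex_bot_left, Subgroup.relIndex_bot_left, inf_relIndex_right] at h
  exact h.symm

theorem relIndex_ne_zero' (A H : Subgroup G) : A.relIndex H ≠ 0 :=
  Subgroup.index_ne_zero_of_finite

theorem card_le_mul_inf {A H C : Subgroup G} (hH : H ≤ C) {B : ℕ} (hB : A.relIndex C ≤ B) :
    Nat.card H ≤ B * Nat.card ↥(A ⊓ H) := by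
  rw [card_eq_inf_mul_relIndex A H, mul_comm]
  exact Nat.mul_le_mul_right _
    ((Subgroup.relIndex_le_of_le_right hH (relIndex_ne_zero' _ _)).trans hB)

theorem relIndex_le_of_card_le {A H : Subgroup G} {K : ℕ}
    (h : Nat.card H ≤ K * Nat.card ↥(A ⊓ H)) : A.relIndex H ≤ K := by
  rw [card_eq_inf_mul_relIndex A H, mul_comm] at h
  exact Nat.le_of_mul_le_mul_right h Nat.card_pos

theorem card_mul_card_le {H₁ H₂ C : Subgroup G} (h₁ : H₁ ≤ C) (h₂ : H₂ ≤ C) :
    Nat.card H₁ * Nat.card H₂ ≤ Nat.card C * Nat.card ↥(H₂ ⊓ H₁) := by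
  have h := card_le_mul_inf (A := H₂) h₁ le_rfl
  have hC : Nat.card C = Nat.card H₂ * H₂.relIndex C := by
    rw [card_eq_inf_mul_relIndex H₂ C, inf_eq_left.2 h₂]
  calc Nat.card H₁ * Nat.card H₂ ≤ H₂.relIndex C * Nat.card ↥(H₂ ⊓ H₁) * Nat.card H₂ :=
        Nat.mul_le_mul_right _ h
    _ = _ := by rw [hC]; ring

theorem pow_factorial_mem {A H : Subgroup G} {K : ℕ} (h : A.relIndex H ≤ K) {a : G} (ha : a ∈ H) :
    a ^ K.factorial ∈ A :=
  (Subgroup.mem_inf.1 (Subgroup.pow_mem_of_relIndex_ne_zero_of_dvd (relIndex_ne_zero' _ _) ha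
    fun _ h0 hm => Nat.dvd_factorial h0 (hm.trans h))).1

omit [Finite G] in
theorem centralizer_conj (g d : G) :
    centralizer ({g * d * g⁻¹} : Set G) =
      (centralizer ({d} : Set G)).map (MulAut.conj g).toMonoidHom := by
  ext x
  rw [Subgroup.mem_map_equiv, mem_centralizer_singleton_iff, mem_centralizer_singleton_iff,
    MulAut.conj_symm_apply]
  constructor
  · intro h
    calc g⁻¹ * x * g * d = g⁻¹ * (x * (g * d * g⁻¹)) * g := by group
      _ = g⁻¹ * ((g * d * g⁻¹) * x) * g := by rw [h]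
      _ = d * (g⁻¹ * x * g) := by group
  · intro h
    calc x * (g * d * g⁻¹) = g * (g⁻¹ * x * g * d) * g⁻¹ := by group
      _ = g * (d * (g⁻¹ * x * g)) * g⁻¹ := by rw [h]
      _ = g * d * g⁻¹ * x := by group

/-- An invariant function divisible by the stabilisers sums to a multiple of the group order. -/
theorem dvd_sum_invariant {X : Type*} [MulAction G X] [Fintype X] (f : X → ℕ)
    (hf : ∀ (g : G) (x : X), f (g • x) = f x)
    (h : ∀ x, Nat.card (MulAction.stabilizer G x) ∣ f x) : Nat.card G ∣ ∑ x, f x := by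
  classical
  haveI := Fintype.ofFinite G
  rw [← Finset.sum_fiberwise Finset.univ (fun x => (Quotient.mk (MulAction.orbitRel G X) x)) f]
  refine Finset.dvd_sum fun ω _ => ?_
  induction ω using Quotient.inductionOn with
  | h x =>
    have hset : (Finset.univ.filter fun y => Quotient.mk (MulAction.orbitRel G X) y = ⟦x⟧) =
        (MulAction.orbit G x).toFinset := by
      ext y
      simp only [Finset.mem_filter, Finset.mem_univ, true_and, Set.mem_toFinset]
      exact Quotient.eq
    rw [hset, Finset.sum_congr rfl (g := fun _ => f x) (fun y hy => by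
      obtain ⟨g, rfl⟩ := MulAction.mem_orbit_iff.1 (Set.mem_toFinset.1 hy); exact hf g x),
      Finset.sum_const, smul_eq_mul]
    have hcard : (MulAction.orbit G x).toFinset.card = (MulAction.stabilizer G x).index := by
      rw [← Nat.card_eq_card_toFinset, Subgroup.index_eq_card]
      exact Nat.card_congr (MulAction.orbitEquivQuotientStabilizer G x)
    obtain ⟨c, hc⟩ := h x
    exact ⟨c, by rw [hcard, hc, ← (MulAction.stabilizer G x).card_mul_index]; ring⟩

end H18.BF
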