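import Cfsg.Agent.H18.BF.Torus

/-!
Jordan's argument: the part of the group attached to a class.
-/

set_option autoImplicit false
set_option linter.unusedSectionVars false

namespace H18.BF

open Subgroup

universe u

variable {G : Type u} [Group G] {π : Par}

/-- The elements attached to a class, the centre included. -/
def Uset (π : Par) (c : Set G) : Set G :=
  {y | y ∈ Nsub c ∧ π.L3 < Nat.card ↥(centralizer ({y} : Set G) ⊓ Tsub π c)}

theorem mem_Nsub {g : G} {c : Set G} : g ∈ Nsub c ↔ cset g c = c := Iff.rfl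

theorem cset_mul (a b : G) (c : Set G) : cset (a * b) c = cset a (cset b c) := by
  simp only [cset, Set.image_image]
  congr 1; funext x; group

theorem cset_one (c : Set G) : cset 1 c = c := by simp [cset]

theorem centralizer_cset (g : G) (c : Set G) :
    centralizer (cset g c) = (centralizer c).map (MulAut.conj g).toMonoidHom := by
  ext x
  rw [mem_map_equiv, MulAut.conj_symm_apply]
  simp only [Subgroup.mem_centralizer_iff]
  constructor
  · intro h y hy
    have := h _ ⟨y, hy, rfl⟩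
    calc y * (g⁻¹ * x * g) = g⁻¹ * (g * y * g⁻¹ * x) * g := by group
      _ = g⁻¹ * (x * (g * y * g⁻¹)) * g := by rw [this]
      _ = g⁻¹ * x * g * y := by group
  · rintro h _ ⟨y, hy, rfl⟩
    have := h y hy
    calc g * y * g⁻¹ * x = g * (y * (g⁻¹ * x * g)) * g⁻¹ := by group
      _ = g * (g⁻¹ * x * g * y) * g⁻¹ := by rw [this]
      _ = x * (g * y * g⁻¹) := by group

theorem powSub_map {H : Type*} [Group H] (φ : G →* H) (A : Subgroup G) (k : ℕ) :
    powSub (A.map φ) k = (powSub A k).map φ := by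
  simp only [powSub, MonoidHom.map_closure, Subgroup.coe_map, Set.image_image, map_pow]

theorem Tsub_cset (g : G) (c : Set G) :
    Tsub π (cset g c) = (Tsub π c).map (MulAut.conj g).toMonoidHom := by
  rw [Tsub, centralizer_cset, powSub_map, Tsub]

theorem Nsub_cset (g : G) (c : Set G) :
    Nsub (cset g c) = (Nsub c).map (MulAut.conj g).toMonoidHom := by
  ext x
  rw [mem_map_equiv, MulAut.conj_symm_apply, mem_Nsub, mem_Nsub]
  constructor
  · intro h
    rw [cset_mul, cset_mul, h, ← cset_mul, inv_mul_cancel, cset_one]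
  · intro h
    conv_rhs => rw [← h]
    rw [← cset_mul, ← cset_mul]
    congr 1; group

theorem Uset_cset (g : G) (c : Set G) : Uset π (cset g c) = cset g (Uset π c) := by
  ext x
  have hcent : centralizer ({x} : Set G) =
      (centralizer ({g⁻¹ * x * g} : Set G)).map (MulAut.conj g).toMonoidHom := by
    rw [← centralizer_conj]; congr 2; group
  have key : x ∈ Uset π (cset g c) ↔ g⁻¹ * x * g ∈ Uset π c := by
    unfold Uset
    simp only [Set.mem_ofPred_eq]
    rw [Nsub_cset, mem_map_equiv, MulAut.conj_symm_apply, Tsub_cset, hcent,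
      ← map_inf _ _ _ (MulAut.conj g).injective, card_conj]
  rw [key]
  constructor
  · intro h; exact ⟨_, h, by group⟩
  · rintro ⟨y, hy, rfl⟩; simpa [mul_assoc] using hy

variable [Finite G]

namespace JData

variable (D : JData G π) {d : G}
include D

theorem self_mem_cls (hd : Tor π d) : d ∈ cls π d := ⟨hd, D.rel_refl hd⟩

theorem cls_eq {d' : G} (hd : Tor π d) (hd' : Tor π d') (h : Rel π d d') : cls π d = cls π d' := by
  ext x
  exact ⟨fun ⟨hx, hr⟩ => ⟨hx, D.rel_trans hd' hd.1 hx.1 h.symm hr⟩,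
    fun ⟨hx, hr⟩ => ⟨hx, D.rel_trans hd hd'.1 hx.1 h hr⟩⟩

theorem rel_of_cls_eq {d' : G} (hd' : Tor π d') (h : cls π d = cls π d') : Rel π d d' :=
  (h.symm ▸ D.self_mem_cls hd' : d' ∈ cls π d).2

theorem centralizer_cls_le (hd : Tor π d) : centralizer (cls π d) ≤ centralizer ({d} : Set G) :=
  centralizer_le (Set.singleton_subset_iff.2 (D.self_mem_cls hd))

theorem T_le_A (hd : Tor π d) : Tsub π (cls π d) ≤ D.A hd.1.1 := by
  refine (Subgroup.closure_le _).2 ?_
  rintro _ ⟨a, ha, rfl⟩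
  exact D.pow_mem_A _ (D.centralizer_cls_le hd ha)

theorem T_comm (hd : Tor π d) : IsMulCommutative (Tsub π (cls π d)) :=
  comm_of_le (D.A_comm _) (D.T_le_A hd)

theorem pow_cent_cls (hd : Tor π d) {a : G} (ha : a ∈ centralizer ({d} : Set G)) :
    a ^ π.K.factorial ∈ centralizer (cls π d) := by
  rw [Subgroup.mem_centralizer_iff]
  rintro d' ⟨hd', hr⟩
  have h := D.dichotomy hd.1 hd'.1 hr
  rw [inf_comm] at h
  exact (mem_centralizer_singleton_iff.1 (pow_factorial_mem (relIndex_le_of_card_le h) ha)).symm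

theorem pow_mem_T (hd : Tor π d) {a : G} (ha : a ∈ centralizer ({d} : Set G)) :
    a ^ π.fT ∈ Tsub π (cls π d) := by
  have h : (a ^ π.K.factorial) ^ π.e ∈ Tsub π (cls π d) :=
    pow_mem_powSub (D.pow_cent_cls hd ha) π.e
  rwa [← pow_mul] at h

theorem card_A_le_T (hd : Tor π d) :
    Nat.card (D.A hd.1.1) ≤ π.R π.fT * Nat.card (Tsub π (cls π d)) := by
  refine (card_le_powSub D.roots (D.A_comm _) π.fT_pos).trans
    (Nat.mul_le_mul_left _ (card_le_of_le ((Subgroup.closure_le _).2 ?_)))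
  rintro _ ⟨a, ha, rfl⟩
  exact D.pow_mem_T hd (D.A_le _ ha)

theorem L3_lt_T (hd : Tor π d) : π.L3 < Nat.card (Tsub π (cls π d)) := by
  have h1 := (D.L1_ge hd).2.2.1
  have h2 := (D.card_cent_le_A hd.1.1).trans (Nat.mul_le_mul_left _ (D.card_A_le_T hd))
  rw [← mul_assoc] at h2
  exact Nat.lt_of_mul_lt_mul_left (lt_of_lt_of_le h1 h2)

theorem commute_mem_N {y : G} (hd : Tor π d) (hy : y ∈ centralizer ({d} : Set G)) :
    y ∈ Nsub (cls π d) := by
  rw [mem_Nsub, ← cls_conj]
  congr 1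
  rw [mem_centralizer_singleton_iff.1 hy, mul_assoc, mul_inv_cancel, mul_one]

theorem T_le_N (hd : Tor π d) : Tsub π (cls π d) ≤ Nsub (cls π d) := fun _ ht =>
  D.commute_mem_N hd (D.A_le _ (D.T_le_A hd ht))

theorem center_le_N (hd : Tor π d) : center G ≤ Nsub (cls π d) := fun _ hz =>
  D.commute_mem_N hd (mem_centralizer_singleton_iff.2 (Subgroup.mem_center_iff.1 hz d).symm)

omit D in
theorem conj_mem_cent {c : Set G} {g a : G} (hg : g ∈ Nsub c) (ha : a ∈ centralizer c) :
    g * a * g⁻¹ ∈ centralizer c := by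
  have h : (centralizer c).map (MulAut.conj g).toMonoidHom = centralizer c := by
    rw [← centralizer_cset, show cset g c = c from hg]
  rw [← h]
  exact mem_map_of_mem _ ha

omit D in
theorem N_le_normalizer_T {c : Set G} :
    Nsub c ≤ normalizer (Tsub π c : Set G) := by
  intro g hg
  rw [Subgroup.mem_normalizer_iff]
  have key : ∀ g ∈ Nsub c, ∀ h ∈ Tsub π c, g * h * g⁻¹ ∈ Tsub π c := by
    intro g hg h hh
    induction hh using Subgroup.closure_induction with
    | mem x hx =>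
      obtain ⟨a, ha, rfl⟩ := hx
      show g * a ^ π.e * g⁻¹ ∈ _
      rw [← conj_pow]
      exact pow_mem_powSub (conj_mem_cent hg ha) _
    | one => simp
    | mul x y _ _ hx hy =>
      rw [show g * (x * y) * g⁻¹ = (g * x * g⁻¹) * (g * y * g⁻¹) by group]
      exact mul_mem hx hy
    | inv x _ hx =>
      rw [show g * x⁻¹ * g⁻¹ = (g * x * g⁻¹)⁻¹ by group]
      exact inv_mem hx
  refine fun h => ⟨key g hg h, fun hh => ?_⟩
  have := key g⁻¹ (inv_mem hg) _ hh
  simpa [mul_assoc] using this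

omit D in
theorem normalizer_le_powSub (T : Subgroup G) (k : ℕ) :
    normalizer (T : Set G) ≤ normalizer (powSub T k : Set G) := by
  intro g hg
  have key : ∀ g ∈ normalizer (T : Set G), ∀ h ∈ powSub T k, g * h * g⁻¹ ∈ powSub T k := by
    intro g hg h hh
    induction hh using Subgroup.closure_induction with
    | mem x hx =>
      obtain ⟨a, ha, rfl⟩ := hx
      show g * a ^ k * g⁻¹ ∈ _
      rw [← conj_pow]
      exact pow_mem_powSub ((Subgroup.mem_normalizer_iff.1 hg a).1 ha) _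
    | one => simp
    | mul x y _ _ hx hy =>
      rw [show g * (x * y) * g⁻¹ = (g * x * g⁻¹) * (g * y * g⁻¹) by group]
      exact mul_mem hx hy
    | inv x _ hx =>
      rw [show g * x⁻¹ * g⁻¹ = (g * x * g⁻¹)⁻¹ by group]
      exact inv_mem hx
  rw [Subgroup.mem_normalizer_iff]
  refine fun h => ⟨key g hg h, fun hh => ?_⟩
  have := key g⁻¹ (inv_mem hg) _ hh
  simpa [mul_assoc] using this

theorem card_N_le (hd : Tor π d) :
    Nat.card (Nsub (cls π d)) ≤ π.W * Nat.card (Tsub π (cls π d)) := by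
  set T := Tsub π (cls π d) with hT
  obtain ⟨t, ht, htc⟩ := exists_noncentral D.roots (D.A_comm hd.1.1)
    (k := π.f) (Nat.mul_pos (Nat.mul_pos π.fT_pos π.e_pos) D.Q_pos) (by
      have h1 := lt_of_lt_of_le (D.L1_ge hd).2.2.2 (D.card_cent_le_A hd.1.1)
      rw [mul_assoc] at h1
      exact lt_of_le_of_lt (Nat.mul_le_mul_left _ D.center_le) (Nat.lt_of_mul_lt_mul_left h1))
  obtain ⟨a, ha, hae⟩ := exists_of_mem_powSub (D.A_comm hd.1.1) ht
  have ht1 : t ∈ powSub T π.Q := by
    rw [← hae, show π.f = π.e * π.fT * π.Q by rw [Par.f]; ring, pow_mul, pow_mul]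
    refine pow_mem_powSub (D.pow_mem_T hd ((centralizer ({d} : Set G)).pow_mem (D.A_le _ ha) _)) _
  have htpre : PreTor π t := by
    refine ⟨htc, D.A hd.1.1, D.A_comm _, ?_⟩
    rw [← hae, show π.f = (π.K.factorial * π.Q) * (π.e * π.e) by rw [Par.f, Par.fT]; ring, pow_mul]
    exact pow_mem_powSub ((D.A hd.1.1).pow_mem ha _) _
  have hrel : Rel π t d := by
    have h2 := lt_of_lt_of_le (D.L1_ge hd).2.1 (D.card_cent_le_A hd.1.1)
    refine lt_of_lt_of_le (Nat.lt_of_mul_lt_mul_left h2) (card_le_of_le (le_inf ?_ (D.A_le _)))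
    exact le_centralizer_of_mem (D.A_comm _) (powSub_le _ _ ht)
  have hCt : Nat.card (centralizer ({t} : Set G)) ≤ π.K * Nat.card (centralizer ({d} : Set G)) :=
    (D.dichotomy htpre hd.1 hrel).trans (Nat.mul_le_mul_left _ (card_le_of_le inf_le_right))
  have h1 : Nat.card (Nsub (cls π d)) ≤
      π.W0 * Nat.card (centralizer (powSub T π.Q : Set G)) := by
    refine (card_le_of_le (N_le_normalizer_T.trans (normalizer_le_powSub T π.Q))).trans ?_
    refine (card_le_mul_inf le_rfl (D.norm T (D.T_comm hd))).trans ?_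
    exact Nat.mul_le_mul_left _ (card_le_of_le inf_le_left)
  have h2 : centralizer (powSub T π.Q : Set G) ≤ centralizer ({t} : Set G) :=
    centralizer_le (Set.singleton_subset_iff.2 ht1)
  calc _ ≤ π.W0 * (π.K * (π.B * (π.R π.fT * Nat.card T))) :=
        h1.trans (Nat.mul_le_mul_left _ ((card_le_of_le h2).trans (hCt.trans (Nat.mul_le_mul_left _
          ((D.card_cent_le_A hd.1.1).trans (Nat.mul_le_mul_left _ (D.card_A_le_T hd)))))))
    _ = _ := by rw [Par.W]; ring

theorem cent_inf_T_mul (hd : Tor π d) {y t : G} (ht : t ∈ Tsub π (cls π d)) :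
    centralizer ({y * t} : Set G) ⊓ Tsub π (cls π d) =
      centralizer ({y} : Set G) ⊓ Tsub π (cls π d) := by
  ext x
  simp only [Subgroup.mem_inf, mem_centralizer_singleton_iff]
  refine and_congr_left fun hx => ?_
  have hxt : x * t = t * x := comm_of_mem (D.T_comm hd) hx ht
  rw [← mul_assoc, mul_assoc y, ← hxt, ← mul_assoc]
  exact mul_left_inj t

theorem T_dvd_U (hd : Tor π d) :
    Nat.card (Tsub π (cls π d)) ∣ Nat.card (Uset π (cls π d)) := by
  set T := Tsub π (cls π d)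
  have hsat : Uset π (cls π d) =
      QuotientGroup.mk ⁻¹' ((QuotientGroup.mk : G → G ⧸ T) '' Uset π (cls π d)) := by
    ext y
    refine ⟨fun h => ⟨y, h, rfl⟩, ?_⟩
    rintro ⟨x, ⟨hxN, hx⟩, hxy⟩
    rw [QuotientGroup.eq] at hxy
    refine ⟨?_, ?_⟩
    · have := mul_mem hxN (D.T_le_N hd hxy)
      rwa [mul_inv_cancel_left] at this
    · rwa [show y = x * (x⁻¹ * y) by group, D.cent_inf_T_mul hd hxy]
  rw [hsat, Nat.card_congr (QuotientGroup.preimageMkEquivSubgroupProdSet T _), Nat.card_prod]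
  exact dvd_mul_right _ _

theorem center_subset_U (hd : Tor π d) : (center G : Set G) ⊆ Uset π (cls π d) := by
  intro z hz
  refine ⟨D.center_le_N hd hz, ?_⟩
  rw [show centralizer ({z} : Set G) = ⊤ from top_le_iff.1 fun x _ =>
    mem_centralizer_singleton_iff.2 (Subgroup.mem_center_iff.1 hz x), top_inf_eq]
  exact D.L3_lt_T hd

theorem T_le_card_U (hd : Tor π d) :
    Nat.card (Tsub π (cls π d)) ≤ Nat.card (Uset π (cls π d)) := by
  refine Nat.le_of_dvd ?_ (D.T_dvd_U hd)
  haveI : Nonempty (Uset π (cls π d)) := ⟨⟨1, D.center_subset_U hd (one_mem _)⟩⟩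
  exact Nat.card_pos

/-- Different classes have disjoint parts. -/
theorem disjoint_U {d' : G} (hd : Tor π d) (hd' : Tor π d') {y : G} (hyc : y ∉ center G)
    (h : y ∈ Uset π (cls π d)) (h' : y ∈ Uset π (cls π d')) : cls π d = cls π d' := by
  have aux : ∀ d : G, (hd : Tor π d) → y ∈ Uset π (cls π d) → ∃ x, PreTor π x ∧ x ∈ D.A hyc ∧
      Rel π d x ∧ π.L2 < Nat.card (D.A hyc) := by
    intro d hd h
    set X := centralizer ({y} : Set G) ⊓ Tsub π (cls π d)
    have hX : Nat.card X ≤ π.B * Nat.card ↥(D.A hyc ⊓ X) := D.card_le_A hyc inf_le_left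
    have hlt : π.c2 * π.z0 + π.L2 < Nat.card ↥(D.A hyc ⊓ X) := by
      have h3 : π.L3 < π.B * Nat.card ↥(D.A hyc ⊓ X) := lt_of_lt_of_le h.2 hX
      unfold Par.L3 at h3
      exact Nat.lt_of_mul_lt_mul_left (a := π.B) (by omega)
    obtain ⟨x, hx, hxc⟩ := exists_noncentral D.roots
      (comm_of_le (D.A_comm hyc) (inf_le_left : D.A hyc ⊓ X ≤ _)) (Nat.mul_pos π.e_pos π.e_pos)
      (lt_of_le_of_lt ((Nat.mul_le_mul_left _ D.center_le).trans (Nat.le_add_right _ _)) hlt)
    have hxmem := powSub_le _ _ hx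
    refine ⟨x, ⟨hxc, _, comm_of_le (D.A_comm hyc) inf_le_left, hx⟩, (Subgroup.mem_inf.1 hxmem).1,
      ?_, lt_of_le_of_lt (Nat.le_add_left _ _) (lt_of_lt_of_le hlt (card_le_of_le inf_le_left))⟩
    have h2 := lt_of_lt_of_le (D.L1_ge hd).2.1 (D.card_cent_le_A hd.1.1)
    refine lt_of_lt_of_le (Nat.lt_of_mul_lt_mul_left h2) (card_le_of_le (le_inf (D.A_le _) ?_))
    exact le_centralizer_of_mem (D.A_comm _)
      (D.T_le_A hd (Subgroup.mem_inf.1 (Subgroup.mem_inf.1 hxmem).2).2)
  obtain ⟨x, hx, hxA, hdx, hL⟩ := aux d hd h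
  obtain ⟨x', hx', hxA', hdx', -⟩ := aux d' hd' h'
  have hxx : Rel π x x' := lt_of_lt_of_le hL (card_le_of_le (le_inf
    (le_centralizer_of_mem (D.A_comm _) hxA) (le_centralizer_of_mem (D.A_comm _) hxA')))
  exact D.cls_eq hd hd' (D.rel_trans hd hx' hd'.1 (D.rel_trans hd hx hx' hdx hxx) hdx'.symm)

/-- Elements outside all parts have small centraliser. -/
theorem small_cent {y : G} (hyc : y ∉ center G)
    (hy : ∀ d, Tor π d → y ∉ Uset π (cls π d)) :
    Nat.card (centralizer ({y} : Set G)) ≤ π.L4 := by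
  by_contra hbig
  have h1 : π.L1 + π.c2 * π.z0 + π.R π.f2 * π.L3 < Nat.card (D.A hyc) := by
    have h := lt_of_lt_of_le (not_le.1 hbig) (D.card_cent_le_A hyc)
    exact Nat.lt_of_mul_lt_mul_left h
  have hAc := D.A_comm hyc
  obtain ⟨x, hx, hxc⟩ := exists_noncentral D.roots hAc (Nat.mul_pos π.e_pos π.e_pos)
    (lt_of_le_of_lt (Nat.mul_le_mul_left _ D.center_le) (by unfold Par.c2 at h1; omega))
  have hAx : D.A hyc ≤ centralizer ({x} : Set G) := le_centralizer_of_mem hAc (powSub_le _ _ hx)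
  have hT : Tor π x := ⟨⟨hxc, _, hAc, hx⟩, lt_of_lt_of_le (by omega) (card_le_of_le hAx)⟩
  refine hy x hT ⟨D.commute_mem_N hT (hAx (D.self_mem_A hyc)), ?_⟩
  have h2 : powSub (D.A hyc) π.f2 ≤ centralizer ({y} : Set G) ⊓ Tsub π (cls π x) := by
    refine le_inf ((powSub_le _ _).trans (D.A_le hyc)) ((Subgroup.closure_le _).2 ?_)
    rintro _ ⟨a, ha, rfl⟩
    show a ^ π.f2 ∈ _
    rw [Par.f2, pow_mul]
    exact D.pow_mem_T hT ((centralizer ({x} : Set G)).pow_mem (hAx ha) _)
  have h3 := (card_le_powSub D.roots hAc (k := π.f2) (Nat.mul_pos π.e_pos π.fT_pos)).trans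
    (Nat.mul_le_mul_left _ (card_le_of_le h2))
  exact Nat.lt_of_mul_lt_mul_left (a := π.R π.f2) (lt_of_lt_of_le (by omega) h3)

end JData

end H18.BF
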