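import Mathlib

/-!
The arithmetic of Jordan's class equation.
-/

set_option autoImplicit false

namespace H18.BF

theorem egypt (J N : ℕ) : ∀ D : ℕ, 0 < D → ∃ Φ : ℕ, ∀ (g : ℕ) (s : Finset ℕ) (m : ℕ → ℕ),
    s.card ≤ N → 0 < g →
    (∀ n ∈ s, 0 < n ∧ n ≤ g ∧ g ∣ n * m n ∧ 0 < m n ∧ n * m n ≤ J * g) →
    (g : ℤ) ∣ (D : ℤ) * ((∑ n ∈ s, (m n : ℤ)) - 1) → g ≤ Φ ∨ g ∈ s := by
  induction N with
  | zero =>
    intro D hD
    refine ⟨D, fun g s m hs hg _ hdvd => Or.inl ?_⟩
    rw [Finset.card_eq_zero.1 (Nat.le_zero.1 hs), Finset.sum_empty, zero_sub, mul_neg_one,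
      dvd_neg, Int.natCast_dvd_natCast] at hdvd
    exact Nat.le_of_dvd hD hdvd
  | succ N ih =>
    intro D hD
    choose Φ hΦ using fun n : Fin (D * (N + 1) * J + 1) =>
      ih (D * (n.val + 1)) (Nat.mul_pos hD (Nat.succ_pos _))
    refine ⟨D + ∑ n, Φ n, fun g s m hs hg hm hdvd => ?_⟩
    by_cases hsmall : ∃ n ∈ s, n ≤ D * (N + 1) * J
    · obtain ⟨n, hn, hle⟩ := hsmall
      obtain ⟨hn0, -, hnd, -, -⟩ := hm n hn
      set i : Fin (D * (N + 1) * J + 1) := ⟨n - 1, by omega⟩ with hi
      have hval : i.val + 1 = n := by simp [hi]; omega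
      have hcard : (s.erase n).card ≤ N := by rw [Finset.card_erase_of_mem hn]; omega
      have h1 : (g : ℤ) ∣ ((D * (i.val + 1) : ℕ) : ℤ) *
          ((∑ k ∈ s.erase n, (m k : ℤ)) - 1) := by
        have h2 : (g : ℤ) ∣ (n : ℤ) * ((D : ℤ) * ((∑ k ∈ s, (m k : ℤ)) - 1)) := hdvd.mul_left _
        have h3 : (g : ℤ) ∣ (D : ℤ) * ((n : ℤ) * (m n : ℤ)) := by
          rw [← Nat.cast_mul]; exact (Int.natCast_dvd_natCast.2 hnd).mul_left _
        rw [hval]
        have h4 := dvd_sub h2 h3
        rw [← Finset.add_sum_erase _ _ hn] at h4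
        have e : ((D * n : ℕ) : ℤ) * ((∑ k ∈ s.erase n, (m k : ℤ)) - 1) =
            (n : ℤ) * ((D : ℤ) * ((m n : ℤ) + ∑ k ∈ s.erase n, (m k : ℤ) - 1)) -
              (D : ℤ) * ((n : ℤ) * (m n : ℤ)) := by push_cast; ring
        rw [e]; exact h4
      rcases hΦ i g (s.erase n) m hcard hg (fun k hk => hm k (Finset.mem_of_mem_erase hk)) h1 with
        h | h
      · exact Or.inl (h.trans (le_add_left (Finset.single_le_sum (fun _ _ => Nat.zero_le _)
          (Finset.mem_univ i))))
      · exact Or.inr (Finset.mem_of_mem_erase h)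
    · push Not at hsmall
      by_cases hgD : g ≤ D
      · exact Or.inl (hgD.trans (Nat.le_add_right _ _))
      have hI : D * ∑ n ∈ s, m n < g := by
        rcases s.eq_empty_or_nonempty with rfl | hne
        · simp; exact hg
        · have key : ∀ n ∈ s, D * (N + 1) * m n < g := by
            intro n hn
            obtain ⟨hn0, -, -, hm0, hJ⟩ := hm n hn
            have h := hsmall n hn
            have hJ0 : 0 < J := Nat.pos_of_ne_zero fun h0 => by
              rw [h0, zero_mul] at hJ; have := Nat.mul_pos hn0 hm0; omega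
            by_contra hle
            have h2 : g * J ≤ D * (N + 1) * m n * J := Nat.mul_le_mul_right J (not_lt.1 hle)
            have h3 : D * (N + 1) * J * m n < n * m n := Nat.mul_lt_mul_of_pos_right h hm0
            nlinarith
          have h2 : ∑ n ∈ s, D * (N + 1) * m n < ∑ n ∈ s, g :=
            Finset.sum_lt_sum_of_nonempty hne key
          rw [Finset.sum_const, smul_eq_mul, ← Finset.mul_sum] at h2
          have h3 : s.card * g ≤ (N + 1) * g := Nat.mul_le_mul_right g hs
          nlinarith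
      have hI1 : ∑ n ∈ s, m n = 1 := by
        by_contra hne
        have hne' : (D : ℤ) * ((∑ n ∈ s, (m n : ℤ)) - 1) ≠ 0 := by
          refine mul_ne_zero (by omega) (sub_ne_zero.2 ?_)
          rw [← Nat.cast_sum]; exact_mod_cast hne
        refine hne' (Int.eq_zero_of_abs_lt_dvd hdvd ?_)
        rw [← Nat.cast_sum, abs_lt]
        have hI' : (D : ℤ) * ((∑ n ∈ s, m n : ℕ) : ℤ) < g := by exact_mod_cast hI
        have hD' : (D : ℤ) < g := by omega
        constructor <;> nlinarith
      obtain ⟨n, hn⟩ : s.Nonempty := Finset.nonempty_of_ne_empty fun h => by simp [h] at hI1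
      obtain ⟨hn0, hng, hnd, hm0, -⟩ := hm n hn
      have h1 : m n ≤ 1 := hI1 ▸ Finset.single_le_sum (fun _ _ => Nat.zero_le _) hn
      rw [show m n = 1 by omega, mul_one] at hnd
      have := Nat.le_of_dvd hn0 hnd
      exact Or.inr ((show n = g by omega) ▸ hn)

end H18.BF
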