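import Cfsg.Agent.H18.BF.Classes
import Cfsg.Agent.H18.BF.Egypt

/-!
Jordan's argument: the class equation.
-/

set_option autoImplicit false
set_option linter.unusedSectionVars false

namespace H18.BF

open Subgroup

universe u

variable {G : Type u} [Group G] [Finite G] {π : Par}

theorem card_Uset_pos (D : JData G π) {d : G} (hd : Tor π d) :
    2 * Nat.card (center G) < Nat.card (Uset π (cls π d)) ∧
      Nat.card (Nsub (cls π d)) ≤ π.W * Nat.card (Uset π (cls π d)) := by
  have h1 := D.L3_lt_T hd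
  have h2 := D.T_le_card_U hd
  have h3 := D.center_le
  refine ⟨?_, (D.card_N_le hd).trans (Nat.mul_le_mul_left _ h2)⟩
  unfold Par.L3 at h1
  omega

/-- Jordan's theorem, abstract form. -/
theorem jordan_abstract (π : Par) : ∃ F : ℕ, ∀ (G : Type u) [Group G] [Finite G], JData G π →
    ∃ A : Subgroup G, A.Normal ∧ IsMulCommutative A ∧ A.index ≤ F := by
  classical
  obtain ⟨Φ, hΦ⟩ := egypt (2 * π.W) (2 * π.W) (π.W.factorial * π.L4.factorial * π.z0.factorial)
    (Nat.mul_pos (Nat.mul_pos (Nat.factorial_pos _) (Nat.factorial_pos _)) (Nat.factorial_pos _))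
  refine ⟨Φ + π.W, fun G _ _ D => ?_⟩
  letI := Fintype.ofFinite G
  set CS : Finset (Set G) := (Finset.univ.filter (Tor π)).image (cls π) with hCS
  have hmem : ∀ c ∈ CS, ∃ d, Tor π d ∧ cls π d = c := fun c hc => by
    obtain ⟨d, hd, hdc⟩ := Finset.mem_image.1 hc
    exact ⟨d, (Finset.mem_filter.1 hd).2, hdc⟩
  have hmem' : ∀ d, Tor π d → cls π d ∈ CS := fun d hd =>
    Finset.mem_image_of_mem _ (Finset.mem_filter.2 ⟨Finset.mem_univ _, hd⟩)
  set Zf : Finset G := Finset.univ.filter (· ∈ center G) with hZf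
  set Uf : Set G → Finset G := fun c => Finset.univ.filter (· ∈ Uset π c) with hUf
  have hUcard : ∀ c, (Uf c).card = Nat.card (Uset π c) := fun c => by
    rw [Nat.card_eq_fintype_card, ← Set.toFinset_card]
    congr 1; ext; simp [hUf]
  have hZcard : Zf.card = Nat.card (center G) := by
    rw [Nat.card_eq_fintype_card, ← Fintype.card_coe]
    exact Fintype.card_congr (Equiv.subtypeEquivRight fun x => by simp [hZf])
  set Sf : Set G → Finset G := fun c => Uf c \ Zf with hSf
  have hSU : ∀ c ∈ CS, (Sf c).card + Nat.card (center G) = Nat.card (Uset π c) := by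
    intro c hc
    obtain ⟨d, hd, rfl⟩ := hmem c hc
    have hsub : Zf ⊆ Uf (cls π d) := fun x hx =>
      Finset.mem_filter.2 ⟨Finset.mem_univ _, D.center_subset_U hd (Finset.mem_filter.1 hx).2⟩
    rw [← hUcard, ← hZcard, hSf]
    exact Finset.card_sdiff_add_card_eq_card hsub
  set Sm : Finset G := Finset.univ.filter fun y => y ∉ center G ∧ ∀ c ∈ CS, y ∉ Uset π c with hSm
  have hdisj : (CS : Set (Set G)).PairwiseDisjoint Sf := by
    intro c hc c' hc' hne
    rw [Function.onFun, Finset.disjoint_left]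
    intro y hy hy'
    obtain ⟨d, hd, rfl⟩ := hmem c hc
    obtain ⟨d', hd', rfl⟩ := hmem c' hc'
    simp only [hSf, hUf, hZf, Finset.mem_sdiff, Finset.mem_filter, Finset.mem_univ, true_and] at hy hy'
    exact hne (D.disjoint_U hd hd' hy.2 hy.1 hy'.1)
  have hsplit : (Finset.univ : Finset G) = (Zf ∪ CS.biUnion Sf) ∪ Sm := by
    ext y
    simp only [Finset.mem_univ, true_iff, Finset.mem_union, Finset.mem_biUnion, hZf, hSm, hSf, hUf,
      Finset.mem_filter, true_and, Finset.mem_sdiff]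
    by_cases h1 : y ∈ center G
    · exact Or.inl (Or.inl h1)
    by_cases h2 : ∃ c ∈ CS, y ∈ Uset π c
    · obtain ⟨c, hc, hy⟩ := h2
      exact Or.inl (Or.inr ⟨c, hc, hy, h1⟩)
    · exact Or.inr ⟨h1, fun c hc hy => h2 ⟨c, hc, hy⟩⟩
  have hd1 : Disjoint Zf (CS.biUnion Sf) := by
    rw [Finset.disjoint_left]
    intro y hy hy'
    obtain ⟨c, -, hc⟩ := Finset.mem_biUnion.1 hy'
    exact (Finset.mem_sdiff.1 hc).2 hy
  have hd2 : Disjoint (Zf ∪ CS.biUnion Sf) Sm := by
    rw [Finset.disjoint_left]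
    intro y hy hy'
    obtain ⟨-, h1, h2⟩ := Finset.mem_filter.1 hy'
    rcases Finset.mem_union.1 hy with h | h
    · exact h1 (Finset.mem_filter.1 h).2
    · obtain ⟨c, hc, hyc⟩ := Finset.mem_biUnion.1 h
      exact h2 c hc (Finset.mem_filter.1 (Finset.mem_sdiff.1 hyc).1).2
  have heq : Nat.card G = Nat.card (center G) + ∑ c ∈ CS, (Sf c).card + Sm.card := by
    rw [Nat.card_eq_fintype_card, ← Finset.card_univ, hsplit, Finset.card_union_of_disjoint hd2,
      Finset.card_union_of_disjoint hd1, Finset.card_biUnion hdisj, hZcard]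
  -- conjugation on classes
  have hinv : ∀ (g : G), ∀ c ∈ CS, cset g c ∈ CS := fun g c hc => by
    obtain ⟨d, hd, rfl⟩ := hmem c hc
    rw [← cls_conj]; exact hmem' _ (tor_conj hd g)
  letI : MulAction G {c : Set G // c ∈ CS} :=
    { smul := fun g c => ⟨cset g c.1, hinv g c.1 c.2⟩
      one_smul := fun c => Subtype.ext (cset_one c.1)
      mul_smul := fun a b c => Subtype.ext (cset_mul a b c.1) }
  have hstab : ∀ c : {c : Set G // c ∈ CS}, MulAction.stabilizer G c = Nsub c.1 := by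
    intro c; ext g
    rw [MulAction.mem_stabilizer_iff, mem_Nsub]
    exact Subtype.ext_iff
  have hsum : ∀ f : Set G → ℕ, (∀ g, ∀ c ∈ CS, f (cset g c) = f c) →
      (∀ c ∈ CS, Nat.card (Nsub c) ∣ f c) → Nat.card G ∣ ∑ c ∈ CS, f c := by
    intro f hf hdvd
    rw [← Finset.sum_coe_sort CS f]
    exact dvd_sum_invariant (fun c : {c : Set G // c ∈ CS} => f c.1) (fun g c => hf g c.1 c.2)
      fun c => by rw [hstab]; exact hdvd c.1 c.2
  have hcset : ∀ (g : G) (S : Set G), Nat.card (cset g S) = Nat.card S := fun g S =>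
    Nat.card_image_of_injective (f := fun x => g * x * g⁻¹) (fun a b h => by simpa using h) S
  have hUdvd : Nat.card G ∣ π.W.factorial * ∑ c ∈ CS, Nat.card (Uset π c) := by
    rw [Finset.mul_sum]
    refine hsum _ (fun g c _ => by rw [Uset_cset, hcset]) fun c hc => ?_
    obtain ⟨d, hd, rfl⟩ := hmem c hc
    obtain ⟨k, hk⟩ := D.T_dvd_U hd
    obtain ⟨w, hw⟩ := Subgroup.card_dvd_of_le (D.T_le_N hd)
    have hT0 : 0 < Nat.card (Tsub π (cls π d)) := Nat.card_pos
    have hwW : w ≤ π.W := Nat.le_of_mul_le_mul_left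
      (hw ▸ (D.card_N_le hd).trans_eq (mul_comm _ _)) hT0
    have hw0 : 0 < w := Nat.pos_of_ne_zero fun h => by
      rw [h, mul_zero] at hw; exact Nat.card_pos.ne' hw
    obtain ⟨v, hv⟩ := Nat.dvd_factorial hw0 hwW
    exact ⟨v * k, by rw [hw, hk, hv]; ring⟩
  have hSmdvd : Nat.card G ∣ π.L4.factorial * Sm.card := by
    have hinvS : ∀ (g : G), ∀ y ∈ Sm, g * y * g⁻¹ ∈ Sm := by
      intro g y hy
      obtain ⟨-, h1, h2⟩ := Finset.mem_filter.1 hy
      refine Finset.mem_filter.2 ⟨Finset.mem_univ _, fun h => h1 ?_, fun c hc h => ?_⟩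
      · have := (inferInstance : (center G).Normal).conj_mem _ h g⁻¹
        simpa [mul_assoc] using this
      · refine h2 (cset g⁻¹ c) (hinv _ _ hc) ?_
        rw [Uset_cset]
        exact ⟨_, h, by group⟩
    letI : MulAction G {y : G // y ∈ Sm} :=
      { smul := fun g y => ⟨g * y.1 * g⁻¹, hinvS g y.1 y.2⟩
        one_smul := fun y => Subtype.ext (show (1 : G) * y.1 * 1⁻¹ = y.1 by group)
        mul_smul := fun a b y => Subtype.ext
          (show a * b * y.1 * (a * b)⁻¹ = a * (b * y.1 * b⁻¹) * a⁻¹ by group) }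
    have := dvd_sum_invariant (G := G) (fun _ : {y : G // y ∈ Sm} => π.L4.factorial) (fun _ _ => rfl) ?_
    · rwa [Finset.sum_const, smul_eq_mul, Finset.card_univ, Fintype.card_coe, mul_comm] at this
    intro y
    have hst : MulAction.stabilizer G y = centralizer ({y.1} : Set G) := by
      ext g
      rw [MulAction.mem_stabilizer_iff, mem_centralizer_singleton_iff, Subtype.ext_iff]
      show g * y.1 * g⁻¹ = y.1 ↔ _
      rw [mul_inv_eq_iff_eq_mul]
    obtain ⟨-, h1, h2⟩ := Finset.mem_filter.1 y.2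
    rw [hst]
    exact Nat.dvd_factorial Nat.card_pos (D.small_cent h1 fun d hd => h2 _ (hmem' d hd))
  -- the invariants
  set m : ℕ → ℕ := fun n => (CS.filter fun c => Nat.card (Nsub c) = n).card with hm
  set s : Finset ℕ := CS.image fun c => Nat.card (Nsub c) with hs
  have hI : ∑ n ∈ s, m n = CS.card :=
    (Finset.card_eq_sum_card_fiberwise fun c hc => Finset.mem_image_of_mem _ hc).symm
  have hNS : ∀ c ∈ CS, Nat.card (Nsub c) ≤ 2 * π.W * (Sf c).card := by
    intro c hc
    obtain ⟨d, hd, rfl⟩ := hmem c hc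
    obtain ⟨h1, h2⟩ := card_Uset_pos D hd
    have h3 := hSU _ hc
    calc _ ≤ π.W * Nat.card (Uset π (cls π d)) := h2
      _ ≤ π.W * (2 * (Sf (cls π d)).card) := Nat.mul_le_mul_left _ (by omega)
      _ = _ := by ring
  have hSle : ∑ c ∈ CS, (Sf c).card ≤ Nat.card G := by omega
  have hnm : ∀ n, n * m n ≤ 2 * π.W * ∑ c ∈ CS.filter (fun c => Nat.card (Nsub c) = n), (Sf c).card := by
    intro n
    rw [Finset.mul_sum, mul_comm n, hm]
    exact (smul_eq_mul _ n ▸ Finset.card_nsmul_le_sum _ _ _ fun c hc => by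
      obtain ⟨h1, h2⟩ := Finset.mem_filter.1 hc
      exact h2 ▸ hNS c h1)
  have hg0 : 0 < Nat.card G := Nat.card_pos
  have hprops : ∀ n ∈ s, 0 < n ∧ n ≤ Nat.card G ∧ Nat.card G ∣ n * m n ∧ 0 < m n ∧
      n * m n ≤ 2 * π.W * Nat.card G := by
    intro n hn
    obtain ⟨c, hc, rfl⟩ := Finset.mem_image.1 hn
    refine ⟨Nat.card_pos, Subgroup.card_le_card_group _, ?_,
      Finset.card_pos.2 ⟨c, Finset.mem_filter.2 ⟨hc, rfl⟩⟩,
      (hnm _).trans (Nat.mul_le_mul_left _ (le_trans (Finset.sum_le_sum_of_subset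
        (Finset.filter_subset _ _)) hSle))⟩
    have := hsum (fun c' => if Nat.card (Nsub c') = Nat.card (Nsub c) then Nat.card (Nsub c) else 0)
      (fun g c' _ => by rw [Nsub_cset, card_conj]) (fun c' _ => by
        split_ifs with h
        · exact h.dvd
        · exact dvd_zero _)
    rw [← Finset.sum_filter, Finset.sum_const, smul_eq_mul, mul_comm] at this
    exact this
  have hscard : s.card ≤ 2 * π.W := by
    refine Nat.le_of_mul_le_mul_right (c := Nat.card G) ?_ hg0
    calc s.card * Nat.card G = ∑ _n ∈ s, Nat.card G := by rw [Finset.sum_const, smul_eq_mul]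
      _ ≤ ∑ n ∈ s, n * m n := Finset.sum_le_sum fun n hn => by
          obtain ⟨h0, -, hd, hm0, -⟩ := hprops n hn
          exact Nat.le_of_dvd (Nat.mul_pos h0 hm0) hd
      _ ≤ ∑ n ∈ s, 2 * π.W * ∑ c ∈ CS.filter (fun c => Nat.card (Nsub c) = n), (Sf c).card :=
          Finset.sum_le_sum fun n _ => hnm n
      _ = 2 * π.W * ∑ c ∈ CS, (Sf c).card := by
          rw [← Finset.mul_sum,
            Finset.sum_fiberwise_of_maps_to (fun c hc => Finset.mem_image_of_mem _ hc)]
      _ ≤ _ := Nat.mul_le_mul_left _ hSle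
  have hdvd : (Nat.card G : ℤ) ∣
      ((π.W.factorial * π.L4.factorial * π.z0.factorial : ℕ) : ℤ) *
        ((∑ n ∈ s, (m n : ℤ)) - 1) := by
    have hz0 : 0 < Nat.card (center G) := Nat.card_pos
    obtain ⟨v, hv⟩ := Nat.dvd_factorial hz0 D.center_le
    have e1 : (∑ c ∈ CS, ((Sf c).card : ℤ)) + (CS.card : ℤ) * Nat.card (center G) =
        ∑ c ∈ CS, (Nat.card (Uset π c) : ℤ) := by
      rw [← Finset.sum_congr rfl fun c hc => congrArg (Nat.cast : ℕ → ℤ) (hSU c hc)]
      push_cast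
      rw [Finset.sum_add_distrib, Finset.sum_const, nsmul_eq_mul]
    have e2 : (Nat.card G : ℤ) = (Nat.card (center G) : ℤ) +
        ∑ c ∈ CS, ((Sf c).card : ℤ) + (Sm.card : ℤ) := by exact_mod_cast heq
    have d1 : (Nat.card G : ℤ) ∣
        (π.W.factorial : ℤ) * ∑ c ∈ CS, (Nat.card (Uset π c) : ℤ) := by exact_mod_cast hUdvd
    have d2 : (Nat.card G : ℤ) ∣ (π.L4.factorial : ℤ) * (Sm.card : ℤ) := by exact_mod_cast hSmdvd
    have hIz : (∑ n ∈ s, (m n : ℤ)) = (CS.card : ℤ) := by exact_mod_cast hI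
    have hvz : (π.z0.factorial : ℤ) = (Nat.card (center G) : ℤ) * (v : ℤ) := by exact_mod_cast hv
    have key : ((π.W.factorial * π.L4.factorial * π.z0.factorial : ℕ) : ℤ) *
        ((∑ n ∈ s, (m n : ℤ)) - 1) = (v : ℤ) * ((π.L4.factorial : ℤ) * ((π.W.factorial : ℤ) *
          ∑ c ∈ CS, (Nat.card (Uset π c) : ℤ)) + (π.W.factorial : ℤ) *
          ((π.L4.factorial : ℤ) * (Sm.card : ℤ))) -
          (v : ℤ) * (π.W.factorial : ℤ) * (π.L4.factorial : ℤ) * (Nat.card G : ℤ) := by
      push_cast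
      rw [hIz, hvz, ← e1, e2]; ring
    rw [key]
    exact dvd_sub ((dvd_add (d1.mul_left _) (d2.mul_left _)).mul_left _) (dvd_mul_left _ _)
  rcases hΦ _ s m hscard hg0 hprops hdvd with h | h
  · refine ⟨⊥, inferInstance, ⟨⟨fun a b => Subsingleton.elim _ _⟩⟩, ?_⟩
    rw [Subgroup.index_bot]; omega
  · obtain ⟨c, hc, hcN⟩ := Finset.mem_image.1 h
    obtain ⟨d, hd, rfl⟩ := hmem c hc
    have htop : Nsub (cls π d) = ⊤ := Subgroup.eq_top_of_card_eq _ hcN
    refine ⟨Tsub π (cls π d), ?_, D.T_comm hd, ?_⟩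
    · rw [← Subgroup.normalizer_eq_top_iff, eq_top_iff, ← htop]
      exact JData.N_le_normalizer_T
    · have h2 := D.card_N_le hd
      rw [hcN, ← (Tsub π (cls π d)).card_mul_index, mul_comm _ (Nat.card (Tsub π (cls π d)))] at h2
      exact (Nat.le_of_mul_le_mul_left h2 Nat.card_pos).trans (Nat.le_add_left _ _)

end H18.BF
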