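import Cfsg.Agent.H18.BF.Reduce

/-!
The theorem of Brauer and Feit.
-/

set_option autoImplicit false
set_option linter.unusedSectionVars false

namespace H18.BF

open Module

universe u v

/-- Bounded index of an abelian normal subgroup in degree at most `n`. -/
def Good (p m n F : ℕ) : Prop :=
  ∀ (G : Type u) [Group G] [Finite G] (K : Type v) [Field K] [CharP K p] [IsAlgClosed K]
    (V : Type v) [AddCommGroup V] [Module K V] [FiniteDimensional K V]
    (ρ : G →* Module.End K V), finrank K V ≤ n → (Nat.card G).factorization p ≤ m →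
    ∃ A : Subgroup G, A.Normal ∧ A.index ≤ F ∧ ∀ a ∈ A, ∀ b ∈ A, ρ (a * b) = ρ (b * a)

/-- The bound in the reducible case. -/
def redBound (p m F : ℕ) : ℕ := F * F * ((p ^ m).factorial * p ^ m)

variable {p m : ℕ} [hp : Fact p.Prime] {K : Type v} [Field K] [CharP K p] [IsAlgClosed K]
  {V : Type v} [AddCommGroup V] [Module K V] [FiniteDimensional K V]

theorem factorization_le_of_dvd {a b : ℕ} (h : a ∣ b) (hb : b ≠ 0) (hm : b.factorization p ≤ m) :
    a.factorization p ≤ m :=
  ((Nat.factorization_le_iff_dvd (fun h0 => hb (by rw [h0] at h; exact zero_dvd_iff.1 h)) hb).2 h p).trans hm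

theorem reducible {n F : ℕ} (hF : Good.{u, v} p m n F) {G : Type u} [Group G] [Finite G]
    (ρ : G →* Module.End K V) (hρ : Function.Injective ρ) (hn : finrank K V ≤ n + 1)
    (hG : (Nat.card G).factorization p ≤ m) (U : Submodule K V) (hU0 : U ≠ ⊥) (hU1 : U ≠ ⊤)
    (hinv : ∀ g, ∀ x ∈ U, ρ g x ∈ U) :
    ∃ A : Subgroup G, A.Normal ∧ IsMulCommutative A ∧ A.index ≤ redBound p m F := by
  let ρU : G →* Module.End K U :=
    { toFun := fun g => (ρ g).restrict (hinv g)
      map_one' := LinearMap.ext fun x => Subtype.ext (by simp)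
      map_mul' := fun g h => LinearMap.ext fun x => Subtype.ext (by simp) }
  let ρQ : G →* Module.End K (V ⧸ U) :=
    { toFun := fun g => Submodule.mapQ U U (ρ g) (fun x hx => hinv g x hx)
      map_one' := Submodule.linearMap_qext _ (LinearMap.ext fun x => by simp)
      map_mul' := fun g h => Submodule.linearMap_qext _ (LinearMap.ext fun x => by simp) }
  have h1 : finrank K U ≤ n := by have := Submodule.finrank_lt hU1; omega
  have h2 : finrank K (V ⧸ U) ≤ n := by
    have := U.finrank_quotient_add_finrank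
    have h : 0 < finrank K U :=
      Nat.pos_of_ne_zero fun h => hU0 (Submodule.finrank_eq_zero.1 h)
    omega
  obtain ⟨A1, hA1, hi1, hc1⟩ := hF G K U ρU h1 hG
  obtain ⟨A2, hA2, hi2, hc2⟩ := hF G K (V ⧸ U) ρQ h2 hG
  haveI : (A1 ⊓ A2).Normal := Subgroup.normal_inf_normal _ _
  obtain ⟨A, hA, hAc, hAi⟩ := comm_red ρ hρ hG U hinv (A1 ⊓ A2)
    (fun a ha b hb x hx => by
      have h := congrArg Subtype.val
        (LinearMap.congr_fun (hc1 a ha.1 b hb.1) (⟨x, hx⟩ : U))
      exact h)
    (fun a ha b hb x => by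
      have h := LinearMap.congr_fun (hc2 a ha.2 b hb.2) (Submodule.Quotient.mk x)
      exact (Submodule.Quotient.eq U).1 h)
  exact ⟨A, hA, hAc, hAi.trans (Nat.mul_le_mul_right _
    (Subgroup.index_inf_le.trans (Nat.mul_le_mul hi1 hi2)))⟩

theorem scalar_of_eigenspace_top {f : Module.End K V} {μ : K} (h : f.eigenspace μ = ⊤) :
    f = μ • (1 : Module.End K V) :=
  LinearMap.ext fun x => Module.End.mem_eigenspace_iff.1 (h ▸ Submodule.mem_top)

theorem eigenspace_invariant {G : Type u} [Group G] (ρ : G →* Module.End K V) {x g : G}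
    (h : g * x = x * g) (μ : K) : ∀ v ∈ (ρ x).eigenspace μ, ρ g v ∈ (ρ x).eigenspace μ := by
  intro v hv
  rw [Module.End.mem_eigenspace_iff] at hv ⊢
  rw [← Module.End.mul_apply, ← map_mul, ← h, map_mul, Module.End.mul_apply, hv, map_smul]

/-- The parameters in degree `n + 1`. -/
def linPar (p m n F : ℕ) : Par where
  B := redBound p m F + 1
  Q := p ^ m
  W0 := (n + 2) ^ (n + 1)
  z0 := n + 1
  R := fun k => p ^ m * (k + 1) ^ (n + 1)

theorem jdata {n F : ℕ} (hF : Good.{u, v} p m n F) {G : Type u} [Group G] [Finite G]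
    (ρ : G →* Module.End K V) (hρ : Function.Injective ρ) (hn : finrank K V ≤ n + 1)
    (hG : (Nat.card G).factorization p ≤ m) [Nontrivial V]
    (hdet : ∀ g, LinearMap.det (ρ g) = 1)
    (hirr : ∀ U : Submodule K V, (∀ g, ∀ x ∈ U, ρ g x ∈ U) → U = ⊥ ∨ U = ⊤) :
    JData G (linPar p m n F) := by
  classical
  have hd : 0 < finrank K V := Module.finrank_pos
  have hco : ∀ (A : Subgroup G), IsMulCommutative A → ∀ a ∈ powSub A (p ^ m), (orderOf a : K) ≠ 0 := by
    intro A hA a ha h0
    obtain ⟨b, -, rfl⟩ := exists_of_mem_powSub hA ha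
    rw [CharP.cast_eq_zero_iff K p] at h0
    have h1 : orderOf (b ^ p ^ m) ∣ Nat.card G / p ^ (Nat.card G).factorization p := by
      rw [orderOf_dvd_iff_pow_eq_one, ← pow_mul]
      refine orderOf_dvd_iff_pow_eq_one.1 ((orderOf_dvd_natCard b).trans ?_)
      conv_lhs => rw [← Nat.ordProj_mul_ordCompl_eq_self (Nat.card G) p]
      exact Nat.mul_dvd_mul_right (pow_dvd_pow p hG) _
    exact Nat.not_dvd_ordCompl hp.out Nat.card_pos.ne' (h0.trans h1)
  refine ⟨Nat.succ_pos _, Nat.pow_pos hp.out.pos, ?_, ?_, ?_, ?_⟩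
  · -- the centre is small
    have hsc : ∀ z : Subgroup.center G, ∃ μ : K, ρ z = μ • (1 : Module.End K V) := by
      intro z
      obtain ⟨μ, hμ⟩ := Module.End.exists_eigenvalue (ρ z)
      refine ⟨μ, scalar_of_eigenspace_top ((hirr _ fun g => eigenspace_invariant ρ
        (Subgroup.mem_center_iff.1 z.2 g) μ).resolve_left hμ)⟩
    choose μ hμ using hsc
    have hroot : ∀ z, μ z ∈ (Polynomial.nthRoots (finrank K V) (1 : K)).toFinset := by
      intro z
      rw [Multiset.mem_toFinset, Polynomial.mem_nthRoots hd]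
      have h := hdet z
      rwa [hμ z, LinearMap.det_smul, map_one, mul_one] at h
    refine (Nat.card_le_card_of_injective
      (fun z => (⟨μ z, hroot z⟩ : (Polynomial.nthRoots (finrank K V) (1 : K)).toFinset))
      fun a b h => Subtype.ext (hρ ?_)).trans ?_
    · have h' : μ a = μ b := congrArg Subtype.val h
      rw [hμ a, hμ b, h']
    · rw [Nat.card_eq_finsetCard]
      exact ((Multiset.toFinset_card_le _).trans (Polynomial.card_nthRoots _ _)).trans hn
  · -- roots
    intro A hA k hk
    let S : Subgroup G :=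
      { carrier := {a | a ∈ A ∧ a ^ k = 1}
        one_mem' := ⟨one_mem _, one_pow _⟩
        mul_mem' := fun {a b} ha hb => ⟨mul_mem ha.1 hb.1, by
          rw [(show Commute a b from comm_of_mem hA ha.1 hb.1).mul_pow, ha.2, hb.2, one_mul]⟩
        inv_mem' := fun {a} ha => ⟨inv_mem ha.1, by rw [inv_pow, ha.2, inv_one]⟩ }
    have hS : IsMulCommutative S := comm_of_le hA fun a ha => ha.1
    show Nat.card S ≤ p ^ m * (k + 1) ^ (n + 1)
    rw [← (powHom S hS (p ^ m)).ker.card_mul_index, Subgroup.index_ker]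
    refine Nat.mul_le_mul ?_ ?_
    · refine card_le_of_exponent hG (fun a => ⟨m, Subtype.ext (Subtype.ext ?_)⟩)
        ((Subgroup.card_subgroup_dvd_card _).trans (Subgroup.card_subgroup_dvd_card S))
      have h := congrArg Subtype.val (MonoidHom.mem_ker.1 a.2)
      simp only [powHom, MonoidHom.coe_mk, OneHom.coe_mk, Subgroup.coe_one] at h
      simp only [Subgroup.coe_pow, Subgroup.coe_one]
      exact h
    · refine (Subgroup.card_le_card_group _).trans ?_
      refine (card_roots_le ρ hρ (comm_of_le hS (powSub_le _ _)) (hco S hS) hk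
        fun a ha => (powSub_le _ _ ha).2).trans ?_
      exact (Nat.pow_le_pow_left (Nat.le_succ k) _).trans
        (Nat.pow_le_pow_right (Nat.succ_pos _) hn)
  · -- centralisers
    intro x hx
    obtain ⟨μ, hμ⟩ := Module.End.exists_eigenvalue (ρ x)
    set C := Subgroup.centralizer ({x} : Set G)
    have htop : (ρ x).eigenspace μ ≠ ⊤ := by
      intro h
      refine hx (Subgroup.mem_center_iff.2 fun g => hρ ?_)
      rw [map_mul, map_mul, scalar_of_eigenspace_top h, mul_smul_comm, smul_mul_assoc, one_mul,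
        mul_one]
    obtain ⟨A, -, hAc, hAi⟩ := reducible hF (ρ.comp C.subtype)
      (hρ.comp C.subtype_injective) hn
      (factorization_le_of_dvd (Subgroup.card_subgroup_dvd_card C) Nat.card_pos.ne' hG)
      _ hμ htop fun g => eigenspace_invariant ρ (Subgroup.mem_centralizer_singleton_iff.1 g.2) μ
    refine ⟨A.map C.subtype, Subgroup.map_subtype_le A, ?_, ?_⟩
    · constructor; constructor
      rintro ⟨_, a, ha, rfl⟩ ⟨_, b, hb, rfl⟩
      exact Subtype.ext (congrArg C.subtype (comm_of_mem hAc ha hb))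
    · rw [Subgroup.relIndex, Subgroup.subgroupOf,
        Subgroup.comap_map_eq_self_of_injective C.subtype_injective]
      exact hAi.trans (Nat.le_succ _)
  · -- normalisers
    intro A hA
    exact normalizer_bound ρ hρ (comm_of_le hA (powSub_le _ _)) (hco A hA) hn

/-- The irreducible case, determinant one. -/
theorem irreducible_sl {n F F' : ℕ} (hF : Good.{u, v} p m n F)
    (hF' : ∀ (G : Type u) [Group G] [Finite G], JData G (linPar p m n F) →
      ∃ A : Subgroup G, A.Normal ∧ IsMulCommutative A ∧ A.index ≤ F')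
    {G : Type u} [Group G] [Finite G] (ρ : G →* Module.End K V) (hρ : Function.Injective ρ)
    (hn : finrank K V ≤ n + 1) (hG : (Nat.card G).factorization p ≤ m) [Nontrivial V]
    (hdet : ∀ g, LinearMap.det (ρ g) = 1)
    (hirr : ∀ U : Submodule K V, (∀ g, ∀ x ∈ U, ρ g x ∈ U) → U = ⊥ ∨ U = ⊤) :
    ∃ A : Subgroup G, A.Normal ∧ IsMulCommutative A ∧ A.index ≤ F' :=
  hF' G (jdata hF ρ hρ hn hG hdet hirr)

end H18.BF
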