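import Cfsg.Agent.H18.BF.Normalise

/-!
Brauer–Feit: induction on the degree.
-/

set_option autoImplicit false
set_option linter.unusedSectionVars false

namespace H18.BF

open Module

universe u v

variable {p m : ℕ} [hp : Fact p.Prime] {K : Type v} [Field K] [CharP K p] [IsAlgClosed K]
  {V : Type v} [AddCommGroup V] [Module K V] [FiniteDimensional K V]

/-- The irreducible case. -/
theorem irreducible {n F F' : ℕ} (hF : Good.{v, v} p m n F)
    (hF' : ∀ (G : Type v) [Group G] [Finite G], JData G (linPar p m n F) →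
      ∃ A : Subgroup G, A.Normal ∧ IsMulCommutative A ∧ A.index ≤ F')
    {G : Type v} [Group G] [Finite G] (ρ : G →* Module.End K V)
    (hn : finrank K V ≤ n + 1) (hG : (Nat.card G).factorization p ≤ m) [Nontrivial V]
    (hirr : ∀ U : Submodule K V, (∀ g, ∀ x ∈ U, ρ g x ∈ U) → U = ⊥ ∨ U = ⊤) :
    ∃ A : Subgroup G, A.Normal ∧ A.index ≤ F' ∧ ∀ a ∈ A, ∀ b ∈ A, ρ (a * b) = ρ (b * a) := by
  haveI := detFix_finite ρ
  set N := (detRep ρ).ker with hN
  obtain ⟨A, hA, hAc, hAi⟩ := irreducible_sl hF hF' (klift (detRep ρ))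
    (klift_injective _) hn
    (factorization_le_of_dvd (Subgroup.index_dvd_card N) Nat.card_pos.ne' (detFix_factorization ρ hG))
    (fun q => by
      induction q using QuotientGroup.induction_on with
      | H x => exact det_detRep ρ x)
    (fun U hU => hirr U fun g v hv => by
      obtain ⟨x, rfl⟩ := detFst_surjective ρ g
      exact mem_of_detRep_mem ρ x (hU (QuotientGroup.mk x) v hv))
  refine ⟨(A.comap (QuotientGroup.mk' N)).map (detFst ρ), ?_, ?_, ?_⟩
  · exact (hA.comap _).map _ (detFst_surjective ρ)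
  · refine (Nat.le_of_dvd ?_ (Subgroup.index_map_dvd _ (detFst_surjective ρ))).trans ?_
    · exact Nat.pos_of_ne_zero Subgroup.index_ne_zero_of_finite
    · rw [Subgroup.index_comap_of_surjective _ (QuotientGroup.mk'_surjective _)]
      exact hAi
  · rintro _ ⟨x, hx, rfl⟩ _ ⟨y, hy, rfl⟩
    refine comm_of_detRep ρ ?_
    have h := congrArg (klift (detRep ρ))
      (comm_of_mem hAc (Subgroup.mem_comap.1 hx) (Subgroup.mem_comap.1 hy))
    rw [← map_mul, ← map_mul] at h
    exact h

/-- Brauer–Feit for every degree. -/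
theorem exists_good (p m : ℕ) [Fact p.Prime] (n : ℕ) : ∃ F, Good.{v, v} p m n F := by
  induction n with
  | zero =>
    refine ⟨1, ?_⟩
    intro G _ _ K _ _ _ V _ _ _ ρ hn hG
    haveI : Subsingleton V := Module.finrank_zero_iff.1 (Nat.le_zero.1 hn)
    exact ⟨⊤, inferInstance, by rw [Subgroup.index_top],
      fun a _ b _ => LinearMap.ext fun x => Subsingleton.elim _ _⟩
  | succ n ih =>
    obtain ⟨F, hF⟩ := ih
    obtain ⟨F', hF'⟩ := jordan_abstract.{v} (linPar p m n F)
    refine ⟨max F (max (redBound p m F) F'), ?_⟩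
    intro G _ _ K _ _ _ V _ _ _ ρ hn hG
    by_cases hle : finrank K V ≤ n
    · obtain ⟨A, h1, h2, h3⟩ := hF G K V ρ hle hG
      exact ⟨A, h1, h2.trans (le_max_left _ _), h3⟩
    haveI : Nontrivial V := Module.finrank_pos_iff.1 (show 0 < finrank K V by omega)
    by_cases hred : ∃ U : Submodule K V, U ≠ ⊥ ∧ U ≠ ⊤ ∧ ∀ g, ∀ x ∈ U, ρ g x ∈ U
    · obtain ⟨U, hU0, hU1, hU⟩ := hred
      obtain ⟨A, h1, h2, h3⟩ := reducible hF (klift ρ)
        (klift_injective ρ) hn
        (factorization_le_of_dvd (Subgroup.index_dvd_card ρ.ker) Nat.card_pos.ne' hG) U hU0 hU1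
        (fun q => by
          induction q using QuotientGroup.induction_on with
          | H g => exact hU g)
      refine ⟨A.comap (QuotientGroup.mk' ρ.ker), h1.comap _, ?_, fun a ha b hb => ?_⟩
      · rw [Subgroup.index_comap_of_surjective _ (QuotientGroup.mk'_surjective _)]
        exact h3.trans ((le_max_left _ _).trans (le_max_right _ _))
      · have h := congrArg (klift ρ)
          (comm_of_mem h2 (Subgroup.mem_comap.1 ha) (Subgroup.mem_comap.1 hb))
        rw [← map_mul, ← map_mul] at h
        exact h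
    · obtain ⟨A, h1, h2, h3⟩ := irreducible hF hF' ρ hn hG fun U hU => by
        by_contra h
        push Not at h
        exact hred ⟨U, h.1, h.2, hU⟩
      exact ⟨A, h1, h2.trans ((le_max_right _ _).trans (le_max_right _ _)), h3⟩

/-- Extending the scalars of an endomorphism of `Fin n → F`. -/
noncomputable def extEnd (F L : Type v) [Field F] [Field L] [Algebra F L] (n : ℕ) :
    Module.End F (Fin n → F) →* Module.End L (Fin n → L) :=
  (MonoidHomClass.toMonoidHom (Matrix.toLinAlgEquiv' : Matrix (Fin n) (Fin n) L ≃ₐ[L] Module.End L (Fin n → L))).comp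
    ((RingHom.toMonoidHom (algebraMap F L).mapMatrix).comp
      (MonoidHomClass.toMonoidHom (LinearMap.toMatrixAlgEquiv' : Module.End F (Fin n → F) ≃ₐ[F] Matrix (Fin n) (Fin n) F)))

theorem extEnd_injective (F L : Type v) [Field F] [Field L] [Algebra F L] (n : ℕ) :
    Function.Injective (extEnd F L n) := by
  intro a b h
  exact LinearMap.toMatrixAlgEquiv'.injective
    (Matrix.map_injective (algebraMap F L).injective (Matrix.toLinAlgEquiv'.injective h))

/-- Brauer–Feit. -/
theorem brauer_feit (p : ℕ) [Fact p.Prime] : ∃ f : ℕ → ℕ → ℕ, ∀ (G : Type u) [Group G] [Finite G]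
    (F : Type v) [Field F] [CharP F p] (n : ℕ) (ρ : Representation F G (Fin n → F)),
    Function.Injective ρ → ∀ m : ℕ, (Nat.card G).factorization p = m →
      ∃ A : Subgroup G, A.Normal ∧ IsMulCommutative A ∧ A.index < f m n := by
  choose Φ hΦ using fun m n : ℕ => exists_good.{v} p m n
  refine ⟨fun m n => Φ m n + 1, fun G _ _ F _ _ n ρ hρ m hm => ?_⟩
  haveI : CharP (AlgebraicClosure F) p :=
    charP_of_injective_algebraMap (algebraMap F (AlgebraicClosure F)).injective p
  let σ : G →* (Module.End (AlgebraicClosure F) (Fin n → AlgebraicClosure F))ˣ :=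
    ((extEnd F (AlgebraicClosure F) n).comp ρ).toHomUnits
  have hσ : Function.Injective σ := fun a b h =>
    hρ (extEnd_injective F (AlgebraicClosure F) n (congrArg Units.val h))
  let e : G ≃* σ.range := MonoidHom.ofInjective hσ
  haveI : Finite σ.range := Finite.of_equiv G e.toEquiv
  obtain ⟨A, h1, h2, h3⟩ := hΦ m n σ.range (AlgebraicClosure F) (Fin n → AlgebraicClosure F)
    ((Units.coeHom _).comp σ.range.subtype) (by simp)
    (by rw [← Nat.card_congr e.toEquiv]; exact hm.le)
  refine ⟨A.comap e.toMonoidHom, h1.comap _, ⟨⟨fun a b => Subtype.ext ?_⟩⟩, ?_⟩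
  · have h := h3 _ a.2 _ b.2
    apply e.injective
    show e ((a : G) * (b : G)) = e ((b : G) * (a : G))
    rw [map_mul, map_mul]
    exact Subtype.ext (Units.ext h)
  · rw [Subgroup.index_comap_of_surjective _ (f := e.toMonoidHom) e.surjective]
    exact Nat.lt_succ_of_le h2

end H18.BF
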