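import Cfsg.Agent.H18.BF.Linear

/-!
Normalising determinants.
-/

set_option autoImplicit false
set_option linter.unusedSectionVars false

namespace H18.BF

open Module

universe v

variable {K : Type v} [Field K] {V : Type v} [AddCommGroup V] [Module K V]
  [FiniteDimensional K V] {G : Type v} [Group G] (ρ : G →* Module.End K V)

/-- The determinant, as a unit. -/
noncomputable def detU : G →* Kˣ := ((LinearMap.det : Module.End K V →* K).comp ρ).toHomUnits

/-- Pairs giving determinant one. -/
noncomputable def detFix : Subgroup (G × Kˣ) :=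
  MonoidHom.ker (((powMonoidHom (finrank K V)).comp (MonoidHom.snd G Kˣ)) *
    ((detU ρ).comp (MonoidHom.fst G Kˣ)))

theorem mem_detFix {x : G × Kˣ} :
    x ∈ detFix ρ ↔ (x.2 : K) ^ finrank K V * LinearMap.det (ρ x.1) = 1 := by
  rw [detFix, MonoidHom.mem_ker, Units.ext_iff]
  rfl

theorem det_ne_zero (g : G) : LinearMap.det (ρ g) ≠ 0 :=
  (detU ρ g).ne_zero

/-- The projection. -/
noncomputable def detFst : detFix ρ →* G := (MonoidHom.fst G Kˣ).comp (detFix ρ).subtype

theorem detFst_surjective [IsAlgClosed K] [Nontrivial V] : Function.Surjective (detFst ρ) := by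
  intro g
  have hd : 0 < finrank K V := Module.finrank_pos
  obtain ⟨l, hl⟩ := IsAlgClosed.exists_pow_nat_eq (LinearMap.det (ρ g))⁻¹ hd
  have hl0 : l ≠ 0 := fun h => by
    rw [h, zero_pow hd.ne'] at hl; exact inv_ne_zero (det_ne_zero ρ g) hl.symm
  refine ⟨⟨(g, Units.mk0 l hl0), ?_⟩, rfl⟩
  rw [mem_detFix]
  show (Units.mk0 l hl0 : K) ^ finrank K V * LinearMap.det (ρ g) = 1
  rw [Units.val_mk0, hl, inv_mul_cancel₀ (det_ne_zero ρ g)]

theorem detFix_finite [Finite G] [Nontrivial V] : Finite (detFix ρ) := by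
  classical
  have hd : 0 < finrank K V := Module.finrank_pos
  refine Finite.of_injective (β := Σ g : G,
    {l : K // l ∈ (Polynomial.nthRoots (finrank K V) (LinearMap.det (ρ g))⁻¹).toFinset})
    (fun x => ⟨x.1.1, (x.1.2 : K), by
      rw [Multiset.mem_toFinset, Polynomial.mem_nthRoots hd]
      exact eq_inv_of_mul_eq_one_left ((mem_detFix ρ).1 x.2)⟩) ?_
  rintro ⟨⟨g, l⟩, hx⟩ ⟨⟨g', l'⟩, hy⟩ h
  simp only [Sigma.mk.injEq] at h
  obtain ⟨h1, h2⟩ := h
  subst h1
  have h3 : (l : K) = l' := congrArg Subtype.val (eq_of_heq h2)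
  exact Subtype.ext (Prod.ext rfl (Units.ext h3))

theorem detFix_factorization {p m : ℕ} [hp : Fact p.Prime] [CharP K p] [IsAlgClosed K]
    [Finite G] [Nontrivial V] (hG : (Nat.card G).factorization p ≤ m) :
    (Nat.card (detFix ρ)).factorization p ≤ m := by
  haveI := detFix_finite ρ
  rw [← (detFst ρ).ker.card_mul_index, Subgroup.index_ker,
    MonoidHom.range_eq_top_of_surjective _ (detFst_surjective ρ), Subgroup.card_top,
    Nat.factorization_mul Nat.card_pos.ne' Nat.card_pos.ne', Finsupp.add_apply]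
  have hker : ¬ p ∣ Nat.card (detFst ρ).ker := by
    intro hdvd
    obtain ⟨x, hx⟩ := exists_prime_orderOf_dvd_card' p hdvd
    have hpow : x ^ p = 1 := by rw [← hx, pow_orderOf_eq_one]
    have hl : ((x.1.1.2 : Kˣ) : K) ^ p = 1 := by
      have h := congrArg (fun y : (detFst ρ).ker => ((y.1.1.2 : Kˣ) : K)) hpow
      simpa using h
    have h1 : (x.1.1.1 : G) = 1 := MonoidHom.mem_ker.1 x.2
    have h2 : ((x.1.1.2 : Kˣ) : K) = 1 :=
      frobenius_inj K p (by rw [frobenius_def, frobenius_def, hl, one_pow])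
    have hx1 : x = 1 := Subtype.ext (Subtype.ext (Prod.ext h1 (Units.ext h2)))
    rw [hx1, orderOf_one] at hx
    exact hp.out.one_lt.ne hx
  rw [Nat.factorization_eq_zero_of_not_dvd hker, zero_add]
  exact hG

/-- The normalised representation. -/
noncomputable def detRep : detFix ρ →* Module.End K V where
  toFun x := (x.1.2 : K) • ρ x.1.1
  map_one' := by simp
  map_mul' x y := by
    simp only [Subgroup.coe_mul, Prod.fst_mul, Prod.snd_mul, Units.val_mul, map_mul]
    rw [smul_mul_assoc, mul_smul_comm, smul_smul]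

theorem detRep_apply (x : detFix ρ) : detRep ρ x = (x.1.2 : K) • ρ (detFst ρ x) := rfl

theorem det_detRep (x : detFix ρ) : LinearMap.det (detRep ρ x) = 1 := by
  rw [detRep_apply, LinearMap.det_smul]; exact (mem_detFix ρ).1 x.2

theorem mem_of_detRep_mem {U : Submodule K V} (x : detFix ρ) {v : V}
    (h : detRep ρ x v ∈ U) : ρ (detFst ρ x) v ∈ U := by
  rw [detRep_apply, LinearMap.smul_apply] at h
  exact (Submodule.smul_mem_iff U x.1.2.ne_zero).1 h

theorem comm_of_detRep {x y : detFix ρ} (h : detRep ρ (x * y) = detRep ρ (y * x)) :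
    ρ (detFst ρ x * detFst ρ y) = ρ (detFst ρ y * detFst ρ x) := by
  rw [detRep_apply, detRep_apply, map_mul (detFst ρ), map_mul (detFst ρ)] at h
  rw [show (((y * x : detFix ρ) : G × Kˣ).2 : K) = (((x * y : detFix ρ) : G × Kˣ).2 : K) from
    congrArg Units.val (mul_comm _ _)] at h
  exact smul_right_injective (Module.End K V) (Units.ne_zero _) h

/-- The faithful representation of the quotient by the kernel. -/
noncomputable def klift {G' : Type*} [Group G'] {M : Type*} [Monoid M] (φ : G' →* M) :
    G' ⧸ φ.ker →* M := QuotientGroup.lift φ.ker φ le_rfl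

theorem klift_injective {G' : Type*} [Group G'] {M : Type*} [Monoid M] (φ : G' →* M) :
    Function.Injective (klift φ) := by
  intro a b
  induction a using QuotientGroup.induction_on with
  | H a =>
    induction b using QuotientGroup.induction_on with
    | H b =>
      intro h
      rw [QuotientGroup.eq, MonoidHom.mem_ker, map_mul]
      have h' : φ a = φ b := h
      rw [← h', ← map_mul, inv_mul_cancel, map_one]

end H18.BF
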