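import Cfsg.Agent.H18.BF.Basic

/-!
Common eigenspaces of abelian subgroups of order prime to the characteristic.
-/

set_option autoImplicit false
set_option linter.unusedSectionVars false

namespace H18.BF

open Module

universe u v

variable {K : Type v} [Field K] [IsAlgClosed K] {V : Type v} [AddCommGroup V] [Module K V]
  [FiniteDimensional K V] {G : Type u} [Group G] [Finite G] (ρ : G →* Module.End K V)

theorem semisimple_of_order {a : G} (ha : (orderOf a : K) ≠ 0) : (ρ a).IsSemisimple := by
  refine Module.End.isSemisimple_of_squarefree_aeval_eq_zero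
    (p := Polynomial.X ^ orderOf a - Polynomial.C (1 : K))
    (Polynomial.separable_X_pow_sub_C 1 ha one_ne_zero).squarefree ?_
  rw [map_sub, map_pow, Polynomial.aeval_X, Polynomial.aeval_C, map_one, ← map_pow,
    pow_orderOf_eq_one, map_one, sub_self]

/-- A weight space. -/
noncomputable def wspace (A : Subgroup G) (χ : A → K) : Submodule K V :=
  ⨅ a : A, (ρ a).maxGenEigenspace (χ a)

variable {A : Subgroup G}

theorem apply_wspace (hco : ∀ a ∈ A, (orderOf a : K) ≠ 0) {χ : A → K} {x : V}
    (hx : x ∈ wspace ρ A χ) (a : A) : ρ a x = χ a • x := by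
  have h := (Submodule.mem_iInf _).1 hx a
  rw [(semisimple_of_order ρ (hco a a.2)).isFinitelySemisimple.maxGenEigenspace_eq_eigenspace] at h
  exact Module.End.mem_eigenspace_iff.1 h

theorem mem_wspace_of_apply {χ : A → K} {x : V} (h : ∀ a : A, ρ a x = χ a • x) :
    x ∈ wspace ρ A χ :=
  (Submodule.mem_iInf _).2 fun a => (Module.End.mem_maxGenEigenspace _ _ _).2 ⟨1, by
    rw [pow_one, LinearMap.sub_apply, LinearMap.smul_apply, Module.End.one_apply, h a, sub_self]⟩

theorem commute_ρ (hA : IsMulCommutative A) (a b : A) : Commute (ρ a) (ρ b) := by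
  unfold Commute SemiconjBy
  rw [← map_mul, ← map_mul, comm_of_mem hA a.2 b.2]

theorem ext_wspace (hA : IsMulCommutative A) {f g : Module.End K V}
    (h : ∀ χ : A → K, ∀ x ∈ wspace ρ A χ, f x = g x) : f = g := by
  have htop : (⨆ χ : A → K, wspace ρ A χ) = ⊤ :=
    Module.End.iSup_iInf_maxGenEigenspace_eq_top_of_iSup_maxGenEigenspace_eq_top_of_commute
      (fun a : A => ρ a) (fun a b _ => commute_ρ ρ hA a b)
      fun a => Module.End.iSup_maxGenEigenspace_eq_top (ρ a)
  refine LinearMap.ext fun x => ?_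
  have hle : (⨆ χ : A → K, wspace ρ A χ) ≤ LinearMap.eqLocus f g :=
    iSup_le fun χ => fun y hy => h χ y hy
  exact (htop ▸ hle) (Submodule.mem_top)

theorem exists_weights (hA : IsMulCommutative A) : ∃ W : Finset (A → K),
    W.card ≤ finrank K V ∧ ∀ χ, χ ∈ W ↔ wspace ρ A χ ≠ ⊥ := by
  classical
  have hind : iSupIndep fun χ : A → K => wspace ρ A χ :=
    Module.End.independent_iInf_maxGenEigenspace_of_forall_mapsTo (fun a : A => ρ a)
      fun a b φ => Module.End.mapsTo_maxGenEigenspace_of_comm (commute_ρ ρ hA b a) φ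
  haveI := hind.fintypeNeBotOfFiniteDimensional
  refine ⟨Finset.univ.map (Function.Embedding.subtype fun χ => wspace ρ A χ ≠ ⊥), ?_, fun χ => ?_⟩
  · rw [Finset.card_map, Finset.card_univ]
    exact hind.subtype_ne_bot_le_finrank
  · simp

theorem card_roots_le (hρ : Function.Injective ρ) (hA : IsMulCommutative A)
    (hco : ∀ a ∈ A, (orderOf a : K) ≠ 0) {k : ℕ} (hk : 0 < k) (hAk : ∀ a ∈ A, a ^ k = 1) :
    Nat.card A ≤ k ^ finrank K V := by
  classical
  obtain ⟨W, hW, hWmem⟩ := exists_weights ρ hA
  set S : Finset K := (Polynomial.nthRoots k (1 : K)).toFinset with hS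
  have hScard : S.card ≤ k := (Multiset.toFinset_card_le _).trans (Polynomial.card_nthRoots k 1)
  have hval : ∀ (a : A) (χ : W), χ.1 a ∈ S := by
    intro a χ
    obtain ⟨x, hx, hx0⟩ := Submodule.exists_mem_ne_zero_of_ne_bot ((hWmem _).1 χ.2)
    rw [hS, Multiset.mem_toFinset, Polynomial.mem_nthRoots hk]
    have key : ∀ i : ℕ, (ρ a ^ i) x = χ.1 a ^ i • x := by
      intro i
      induction i with
      | zero => simp
      | succ i ih =>
        rw [pow_succ', Module.End.mul_apply, ih, map_smul, apply_wspace ρ hco hx a, smul_smul,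
          pow_succ]
    have h := key k
    rw [← map_pow, hAk a a.2, map_one, Module.End.one_apply] at h
    exact smul_left_injective K hx0 (by simpa using h.symm)
  have hinj : Function.Injective fun (a : A) (χ : W) => (⟨χ.1 a, hval a χ⟩ : S) := by
    intro a b hab
    refine Subtype.ext (hρ (ext_wspace ρ hA fun χ x hx => ?_))
    rw [apply_wspace ρ hco hx a, apply_wspace ρ hco hx b]
    by_cases hχ : χ ∈ W
    · rw [show χ a = χ b from congrArg Subtype.val (congrFun hab ⟨χ, hχ⟩)]
    · rw [hWmem, not_not] at hχ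
      rw [hχ, Submodule.mem_bot] at hx
      simp [hx]
  refine (Nat.card_le_card_of_injective _ hinj).trans ?_
  rw [Nat.card_fun, Nat.card_eq_finsetCard, Nat.card_eq_finsetCard]
  exact (Nat.pow_le_pow_left hScard _).trans (Nat.pow_le_pow_right hk hW)

theorem normalizer_bound (hρ : Function.Injective ρ) (hA : IsMulCommutative A)
    (hco : ∀ a ∈ A, (orderOf a : K) ≠ 0) {n : ℕ} (hn : finrank K V ≤ n) :
    (Subgroup.centralizer (A : Set G)).relIndex (Subgroup.normalizer (A : Set G)) ≤ (n + 1) ^ n := by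
  classical
  obtain ⟨W, hW, hWmem⟩ := exists_weights ρ hA
  set N := Subgroup.normalizer (A : Set G) with hN
  have hconj : ∀ g ∈ N, ∀ a : A, g⁻¹ * (a : G) * g ∈ A := by
    intro g hg a
    have := (Subgroup.mem_normalizer_iff.1 (inv_mem hg) (a : G)).1 a.2
    rwa [inv_inv] at this
  let act : N → (A → K) → (A → K) := fun g χ a => χ ⟨_, hconj g.1 g.2 a⟩
  have hmove : ∀ (g : N) (χ : A → K), ∀ x ∈ wspace ρ A χ, ρ g x ∈ wspace ρ A (act g χ) := by
    intro g χ x hx
    refine mem_wspace_of_apply ρ fun a => ?_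
    show ρ a (ρ g x) = χ _ • ρ g x
    have h := apply_wspace ρ hco hx ⟨_, hconj g.1 g.2 a⟩
    calc ρ a (ρ g x) = ρ g (ρ ((g : G)⁻¹ * a * g) x) := by
          rw [← Module.End.mul_apply, ← map_mul, ← Module.End.mul_apply, ← map_mul]
          congr 2; group
      _ = _ := by rw [h, map_smul]
  have hmemW : ∀ (g : N) (χ : W), act g χ.1 ∈ W := by
    intro g χ
    rw [hWmem]
    obtain ⟨x, hx, hx0⟩ := Submodule.exists_mem_ne_zero_of_ne_bot ((hWmem _).1 χ.2)
    intro hbot
    have h := hmove g χ.1 x hx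
    rw [hbot, Submodule.mem_bot] at h
    apply hx0
    have h2 := congrArg (ρ (g : G)⁻¹) h
    rwa [← Module.End.mul_apply, ← map_mul, inv_mul_cancel, map_one, map_zero,
      Module.End.one_apply] at h2
  let f : N → (W → W) := fun g χ => ⟨act g χ.1, hmemW g χ⟩
  let C := (Subgroup.centralizer (A : Set G)).subgroupOf N
  have hinj : Function.Injective fun q : N ⧸ C => f q.out := by
    intro q r hqr
    rw [← QuotientGroup.out_eq' q, ← QuotientGroup.out_eq' r, QuotientGroup.eq]
    rw [Subgroup.mem_subgroupOf, Subgroup.mem_centralizer_iff]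
    intro a ha
    apply hρ
    refine ext_wspace ρ hA fun χ x hx => ?_
    by_cases hχ : χ ∈ W
    · set g := q.out
      set h := r.out
      have heq : act g χ = act h χ := congrArg Subtype.val (congrFun hqr ⟨χ, hχ⟩)
      have h1 := hmove g χ x hx
      have h2 := hmove h χ x hx
      rw [heq] at h1
      simp only [Subgroup.coe_mul, Subgroup.coe_inv, map_mul, Module.End.mul_apply]
      have hz : ρ (g : G)⁻¹ (ρ (h : G) x) ∈ wspace ρ A χ := by
        refine mem_wspace_of_apply ρ fun b => ?_
        have hb : (g : G) * b * (g : G)⁻¹ ∈ A := (Subgroup.mem_normalizer_iff.1 g.2 (b : G)).1 b.2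
        have e1 := apply_wspace ρ hco h2 ⟨_, hb⟩
        rw [← heq] at e1
        have e2 : act g χ ⟨_, hb⟩ = χ b := by
          show χ _ = χ b
          congr 1
          exact Subtype.ext (show (g : G)⁻¹ * ((g : G) * b * (g : G)⁻¹) * g = b by group)
        rw [e2] at e1
        calc ρ b (ρ (g : G)⁻¹ (ρ (h : G) x))
            = ρ (g : G)⁻¹ (ρ ((g : G) * b * (g : G)⁻¹) (ρ (h : G) x)) := by
              rw [← Module.End.mul_apply, ← map_mul, ← Module.End.mul_apply (ρ (g : G)⁻¹), ← map_mul]
              congr 2; group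
          _ = _ := by rw [e1, map_smul]
      rw [apply_wspace ρ hco hz ⟨a, ha⟩, apply_wspace ρ hco hx ⟨a, ha⟩, map_smul, map_smul]
    · rw [hWmem, not_not] at hχ
      rw [hχ, Submodule.mem_bot] at hx
      simp [hx]
  refine (show (Subgroup.centralizer (A : Set G)).relIndex N = Nat.card (N ⧸ C) from rfl).trans_le
    ((Nat.card_le_card_of_injective _ hinj).trans ?_)
  rw [Nat.card_fun, Nat.card_eq_finsetCard]
  exact (Nat.pow_le_pow_left (by omega : W.card ≤ n + 1) _).trans
    (Nat.pow_le_pow_right (by omega) (by omega))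

end H18.BF
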