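import Cfsg.Agent.H18.BF.Count
import Cfsg.Agent.H18.BF.Weights

/-!
The reductions in the theorem of Brauer and Feit.
-/

set_option autoImplicit false
set_option linter.unusedSectionVars false

namespace H18.BF

open Module

universe u v

variable {K : Type v} [Field K] {V : Type v} [AddCommGroup V] [Module K V]
  {G : Type u} [Group G] [Finite G] (ρ : G →* Module.End K V)

theorem card_le_of_exponent {p : ℕ} [hp : Fact p.Prime] {m : ℕ}
    (hG : (Nat.card G).factorization p ≤ m) {X : Type*} [Group X] [Finite X] (hX : IsPGroup p X)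
    (hdvd : Nat.card X ∣ Nat.card G) : Nat.card X ≤ p ^ m := by
  obtain ⟨i, hi⟩ := IsPGroup.iff_card.1 hX
  rw [hi] at hdvd ⊢
  exact Nat.pow_le_pow_right hp.out.pos
    (((hp.out.pow_dvd_iff_le_factorization Nat.card_pos.ne').1 hdvd).trans hG)

theorem index_ker_conj_le (N : Subgroup G) [N.Normal] :
    (MulAut.conjNormal (H := N)).ker.index ≤ (Nat.card N).factorial := by
  rw [Subgroup.index_ker, ← Nat.card_perm]
  refine (Subgroup.card_le_card_group _).trans ?_
  exact Nat.card_le_card_of_injective MulEquiv.toEquiv MulEquiv.toEquiv_injective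

theorem mem_ker_conj {N : Subgroup G} [N.Normal] {g : G}
    (hg : g ∈ (MulAut.conjNormal (H := N)).ker) {x : G} (hx : x ∈ N) : g * x = x * g := by
  have h := congrArg (fun φ : MulAut N => ((φ ⟨x, hx⟩ : N) : G)) (MonoidHom.mem_ker.1 hg)
  simp only [MulAut.conjNormal_apply, MulAut.one_apply] at h
  exact mul_inv_eq_iff_eq_mul.1 h

/-- Commutation modulo a unipotent kernel. -/
theorem comm_red {p : ℕ} [hp : Fact p.Prime] [CharP K p] {m : ℕ} (hρ : Function.Injective ρ)
    (hG : (Nat.card G).factorization p ≤ m) (U : Submodule K V)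
    (hinv : ∀ g, ∀ x ∈ U, ρ g x ∈ U) (A : Subgroup G) [hA : A.Normal]
    (hU : ∀ a ∈ A, ∀ b ∈ A, ∀ x ∈ U, ρ (a * b) x = ρ (b * a) x)
    (hQ : ∀ a ∈ A, ∀ b ∈ A, ∀ x, ρ (a * b) x - ρ (b * a) x ∈ U) :
    ∃ A' : Subgroup G, A'.Normal ∧ IsMulCommutative A' ∧
      A'.index ≤ A.index * ((p ^ m).factorial * p ^ m) := by
  let K0 : Subgroup G :=
    { carrier := {g | (∀ x ∈ U, ρ g x = x) ∧ ∀ x, ρ g x - x ∈ U}
      one_mem' := by simp
      mul_mem' := by
        rintro a b ⟨ha, ha'⟩ ⟨hb, hb'⟩
        refine ⟨fun x hx => by rw [map_mul, Module.End.mul_apply, hb x hx, ha x hx], fun x => ?_⟩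
        rw [map_mul, Module.End.mul_apply]
        have := add_mem (ha' (ρ b x)) (hb' x)
        simpa using this
      inv_mem' := by
        rintro a ⟨ha, ha'⟩
        have key : ∀ x, ρ a⁻¹ (ρ a x) = x := fun x => by
          rw [← Module.End.mul_apply, ← map_mul, inv_mul_cancel, map_one, Module.End.one_apply]
        refine ⟨fun x hx => by conv_lhs => rw [← ha x hx, key], fun x => ?_⟩
        have := neg_mem (ha' (ρ a⁻¹ x))
        rw [← Module.End.mul_apply, ← map_mul, mul_inv_cancel, map_one, Module.End.one_apply,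
          neg_sub] at this
        exact this }
  have hK0n : K0.Normal := by
    constructor
    rintro a ⟨ha, ha'⟩ g
    have key : ∀ x, ρ g (ρ g⁻¹ x) = x := fun x => by
      rw [← Module.End.mul_apply, ← map_mul, mul_inv_cancel, map_one, Module.End.one_apply]
    refine ⟨fun x hx => ?_, fun x => ?_⟩
    · simp only [map_mul, Module.End.mul_apply]
      rw [ha _ (hinv g⁻¹ x hx), key]
    · simp only [map_mul, Module.End.mul_apply]
      have := hinv g _ (ha' (ρ g⁻¹ x))
      rwa [map_sub, key] at this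
  have hexp : ∀ a ∈ K0, a ^ p = 1 := by
    rintro a ⟨ha, ha'⟩
    apply hρ
    rw [map_pow, map_one]
    have key : ∀ (i : ℕ) (x : V), (ρ a ^ i) x = x + (i : K) • (ρ a x - x) := by
      intro i
      induction i with
      | zero => intro x; simp
      | succ i ih =>
        intro x
        rw [pow_succ', Module.End.mul_apply, ih x, map_add, map_smul, ha _ (ha' x)]
        push_cast
        rw [add_smul, one_smul]; abel
    refine LinearMap.ext fun x => ?_
    rw [key, CharP.cast_eq_zero, zero_smul, add_zero, Module.End.one_apply]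
  have hK0p : IsPGroup p K0 := fun a => ⟨1, by rw [pow_one]; exact Subtype.ext (hexp a a.2)⟩
  have hK0c : Nat.card K0 ≤ p ^ m :=
    card_le_of_exponent hG hK0p (Subgroup.card_subgroup_dvd_card _)
  have hcomm : ∀ a ∈ A, ∀ b ∈ A, a * b * a⁻¹ * b⁻¹ ∈ K0 := by
    intro a ha b hb
    have key : ∀ x, ρ (a * b * a⁻¹ * b⁻¹) x = ρ (a * b) (ρ (a⁻¹ * b⁻¹) x) ∧
        x = ρ (b * a) (ρ (a⁻¹ * b⁻¹) x) := by
      intro x
      constructor
      · rw [← Module.End.mul_apply, ← map_mul]; congr 2; group
      · rw [← Module.End.mul_apply, ← map_mul, show b * a * (a⁻¹ * b⁻¹) = 1 by group, map_one,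
          Module.End.one_apply]
    refine ⟨fun x hx => ?_, fun x => ?_⟩
    · rw [(key x).1, hU a ha b hb _ (hinv _ x hx), ← (key x).2]
    · have h := hQ a ha b hb (ρ (a⁻¹ * b⁻¹) x)
      rwa [← (key x).1, ← (key x).2] at h
  set C := A ⊓ (MulAut.conjNormal (H := K0)).ker with hC
  haveI hCn : C.Normal := Subgroup.normal_inf_normal A _
  have hCidx : C.index ≤ A.index * (p ^ m).factorial :=
    Subgroup.index_inf_le.trans (Nat.mul_le_mul_left _
      ((index_ker_conj_le K0).trans (Nat.factorial_le hK0c)))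
  set Z := C ⊓ (MulAut.conjNormal (H := C)).ker with hZ
  have hpow : ∀ a ∈ C, a ^ p ∈ Z := by
    intro a ha
    refine Subgroup.mem_inf.2 ⟨C.pow_mem ha p, ?_⟩
    rw [MonoidHom.mem_ker]
    refine MulEquiv.ext fun b => Subtype.ext ?_
    rw [MulAut.conjNormal_apply, MulAut.one_apply]
    have hc := hcomm (b : G) b.2.1 a ha.1
    set c := (b : G) * a * (b : G)⁻¹ * a⁻¹ with hcdef
    have hca : Commute c a := (mem_ker_conj ha.2 hc).symm
    have h1 : (b : G) * a ^ p * (b : G)⁻¹ = a ^ p := by
      rw [← conj_pow, show (b : G) * a * (b : G)⁻¹ = c * a by rw [hcdef]; group, hca.mul_pow,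
        hexp c hc, one_mul]
    have h2 : Commute (b : G) (a ^ p) := mul_inv_eq_iff_eq_mul.1 h1
    rw [h2.symm.eq, mul_inv_cancel_right]
  haveI : Z.Normal := Subgroup.normal_inf_normal C _
  refine ⟨Z, inferInstance, ⟨⟨fun a b => Subtype.ext ?_⟩⟩, ?_⟩
  · exact mem_ker_conj a.2.2 b.2.1
  · rw [← Subgroup.relIndex_mul_index (inf_le_left : Z ≤ C)]
    have h1 : IsPGroup p (C ⧸ Z.subgroupOf C) := by
      intro q
      induction q using QuotientGroup.induction_on with
      | H a =>
        refine ⟨1, ?_⟩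
        rw [pow_one, ← QuotientGroup.mk_pow, QuotientGroup.eq_one_iff, Subgroup.mem_subgroupOf]
        exact hpow a a.2
    have h2 : Z.relIndex C ≤ p ^ m := card_le_of_exponent hG h1
      ((Subgroup.index_dvd_card _).trans (Subgroup.card_subgroup_dvd_card C))
    calc Z.relIndex C * C.index ≤ p ^ m * (A.index * (p ^ m).factorial) := Nat.mul_le_mul h2 hCidx
      _ = _ := by ring

end H18.BF
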