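import Cfsg.Agent.H18.BF.Basic

/-!
Jordan's argument: classes of large abelian subgroups.
-/

set_option autoImplicit false
set_option linter.unusedSectionVars false

namespace H18.BF

open Subgroup

universe u

/-- Parameters of the counting argument. -/
structure Par where
  B : ℕ
  Q : ℕ
  W0 : ℕ
  z0 : ℕ
  R : ℕ → ℕ

namespace Par

variable (π : Par)

def e : ℕ := π.B.factorial
def c2 : ℕ := π.R (π.e * π.e)
def K : ℕ := π.B ^ 2
def L2 : ℕ := π.B ^ 2 * π.c2 * π.z0 + π.B
def L3 : ℕ := π.B * (π.c2 * π.z0 + π.L2) + 2 * π.z0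
def fT : ℕ := π.K.factorial * π.e
def f : ℕ := π.fT * π.e * π.Q
def f2 : ℕ := π.e * π.fT
def L1 : ℕ := π.K ^ 2 * π.L2 + π.B * π.L2 + π.B * π.R π.fT * π.L3 + π.B * π.R π.f * π.z0
def W : ℕ := π.W0 * π.K * π.B * π.R π.fT
def L4 : ℕ := π.B * (π.L1 + π.c2 * π.z0 + π.R π.f2 * π.L3)

theorem e_pos : 0 < π.e := Nat.factorial_pos _
theorem fT_pos : 0 < π.fT := Nat.mul_pos (Nat.factorial_pos _) π.e_pos

end Par

/-- The hypotheses of the counting argument. -/
structure JData (G : Type u) [Group G] (π : Par) : Prop where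
  B_pos : 0 < π.B
  Q_pos : 0 < π.Q
  center_le : Nat.card (center G) ≤ π.z0
  roots : RootBound G π.R
  cent : ∀ x : G, x ∉ center G → ∃ A : Subgroup G,
    A ≤ centralizer ({x} : Set G) ∧ IsMulCommutative A ∧
      A.relIndex (centralizer ({x} : Set G)) ≤ π.B
  norm : ∀ A : Subgroup G, IsMulCommutative A →
    (centralizer (powSub A π.Q : Set G)).relIndex (normalizer (powSub A π.Q : Set G)) ≤ π.W0

variable {G : Type u} [Group G] {π : Par}

/-- An element that is a high power inside an abelian subgroup. -/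
def PreTor (π : Par) (d : G) : Prop :=
  d ∉ center G ∧ ∃ A : Subgroup G, IsMulCommutative A ∧ d ∈ powSub A (π.e * π.e)

/-- Such an element with a large centraliser. -/
def Tor (π : Par) (d : G) : Prop :=
  PreTor π d ∧ π.L1 < Nat.card (centralizer ({d} : Set G))

/-- Two elements have a large common centraliser. -/
def Rel (π : Par) (d d' : G) : Prop :=
  π.L2 < Nat.card ↥(centralizer ({d} : Set G) ⊓ centralizer ({d'} : Set G))

theorem Rel.symm {d d' : G} (h : Rel π d d') : Rel π d' d := by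
  unfold Rel at *; rwa [inf_comm]

theorem card_conj (H : Subgroup G) (g : G) :
    Nat.card (H.map (MulAut.conj g).toMonoidHom) = Nat.card H :=
  (Nat.card_congr (H.equivMapOfInjective _ (MulAut.conj g).injective).toEquiv).symm

theorem rel_conj {d d' : G} (g : G) :
    Rel π (g * d * g⁻¹) (g * d' * g⁻¹) ↔ Rel π d d' := by
  unfold Rel
  rw [centralizer_conj, centralizer_conj, ← map_inf _ _ _ (MulAut.conj g).injective, card_conj]

theorem PreTor.conj {d : G} (h : PreTor π d) (g : G) : PreTor π (g * d * g⁻¹) := by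
  obtain ⟨h1, A, hA, hd⟩ := h
  refine ⟨fun hc => h1 ?_, A.map (MulAut.conj g).toMonoidHom, ?_, ?_⟩
  · have := (inferInstance : (center G).Normal).conj_mem _ hc g⁻¹
    simpa [mul_assoc] using this
  · constructor; constructor
    rintro ⟨_, a, ha, rfl⟩ ⟨_, b, hb, rfl⟩
    exact Subtype.ext (by
      show (MulAut.conj g).toMonoidHom a * _ = _
      rw [← map_mul, comm_of_mem hA ha hb, map_mul]
      rfl)
  · obtain ⟨a, ha, rfl⟩ := exists_of_mem_powSub hA hd
    have := pow_mem_powSub (A := A.map (MulAut.conj g).toMonoidHom) (mem_map_of_mem _ ha)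
      (π.e * π.e)
    rw [← map_pow] at this
    exact this

theorem tor_conj {d : G} (h : Tor π d) (g : G) : Tor π (g * d * g⁻¹) :=
  ⟨h.1.conj g, by rw [centralizer_conj, card_conj]; exact h.2⟩

variable [Finite G]

namespace JData

variable (D : JData G π)
include D

theorem exists_A {x : G} (hx : x ∉ center G) : ∃ A : Subgroup G,
    A ≤ centralizer ({x} : Set G) ∧ IsMulCommutative A ∧ x ∈ A ∧
      A.relIndex (centralizer ({x} : Set G)) ≤ π.B := by
  obtain ⟨A, h1, h2, h3⟩ := D.cent x hx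
  refine ⟨Subgroup.closure ((A : Set G) ∪ {x}), (Subgroup.closure_le _).2 ?_,
    Subgroup.isMulCommutative_closure ?_, Subgroup.subset_closure (Or.inr rfl), ?_⟩
  · rintro y (hy | hy)
    · exact h1 hy
    · rw [Set.mem_singleton_iff.1 hy]; exact mem_centralizer_singleton_iff.2 rfl
  · rintro a (ha | ha) b (hb | hb)
    · exact comm_of_mem h2 ha hb
    · rw [Set.mem_singleton_iff.1 hb]; exact mem_centralizer_singleton_iff.1 (h1 ha)
    · rw [Set.mem_singleton_iff.1 ha]; exact (mem_centralizer_singleton_iff.1 (h1 hb)).symm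
    · rw [Set.mem_singleton_iff.1 ha, Set.mem_singleton_iff.1 hb]
  · exact (Subgroup.relIndex_le_of_le_left (fun a ha => Subgroup.subset_closure (Or.inl ha))
      (relIndex_ne_zero' _ _)).trans h3

/-- The chosen abelian subgroup in a centraliser. -/
noncomputable def A {x : G} (hx : x ∉ center G) : Subgroup G := (D.exists_A hx).choose

theorem A_le {x : G} (hx : x ∉ center G) : D.A hx ≤ centralizer ({x} : Set G) :=
  (D.exists_A hx).choose_spec.1
theorem A_comm {x : G} (hx : x ∉ center G) : IsMulCommutative (D.A hx) :=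
  (D.exists_A hx).choose_spec.2.1
theorem self_mem_A {x : G} (hx : x ∉ center G) : x ∈ D.A hx := (D.exists_A hx).choose_spec.2.2.1
theorem A_index {x : G} (hx : x ∉ center G) :
    (D.A hx).relIndex (centralizer ({x} : Set G)) ≤ π.B :=
  (D.exists_A hx).choose_spec.2.2.2

theorem card_le_A {x : G} (hx : x ∉ center G) {H : Subgroup G}
    (hH : H ≤ centralizer ({x} : Set G)) :
    Nat.card H ≤ π.B * Nat.card ↥(D.A hx ⊓ H) := card_le_mul_inf hH (D.A_index hx)

theorem card_cent_le_A {x : G} (hx : x ∉ center G) :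
    Nat.card (centralizer ({x} : Set G)) ≤ π.B * Nat.card (D.A hx) :=
  (D.card_le_A hx le_rfl).trans (Nat.mul_le_mul_left _ (card_le_of_le inf_le_left))

theorem pow_mem_A {x a : G} (hx : x ∉ center G) (ha : a ∈ centralizer ({x} : Set G)) :
    a ^ π.e ∈ D.A hx := pow_factorial_mem (D.A_index hx) ha

theorem pre_mem {d : G} (hd : PreTor π d) : d ∈ powSub (D.A hd.1) π.e := by
  obtain ⟨A, hA, hdA⟩ := hd.2
  obtain ⟨a, ha, hae⟩ := exists_of_mem_powSub hA hdA
  have h := D.pow_mem_A hd.1 (le_centralizer_of_mem hA (powSub_le _ _ hdA) ha)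
  have := pow_mem_powSub h π.e
  rwa [← pow_mul, hae] at this

theorem near {d h : G} (hd : PreTor π d) (hh : h ∉ center G)
    (hm : h ∈ powSub (D.A hd.1) π.e) :
    Nat.card (centralizer ({d} : Set G)) ≤
      π.B * Nat.card ↥(centralizer ({d} : Set G) ⊓ centralizer ({h} : Set G)) ∧
    Nat.card (centralizer ({h} : Set G)) ≤
      π.B * Nat.card ↥(centralizer ({d} : Set G) ⊓ centralizer ({h} : Set G)) := by
  constructor
  · exact (D.card_cent_le_A hd.1).trans (Nat.mul_le_mul_left _ (card_le_of_le (le_inf (D.A_le hd.1)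
      (le_centralizer_of_mem (D.A_comm hd.1) (powSub_le _ _ hm)))))
  · refine (D.card_cent_le_A hh).trans (Nat.mul_le_mul_left _ (card_le_of_le (le_inf ?_ (D.A_le hh))))
    obtain ⟨a, ha, hae⟩ := exists_of_mem_powSub (D.A_comm hd.1) (D.pre_mem hd)
    have : d ∈ D.A hh := hae ▸ D.pow_mem_A hh
      (le_centralizer_of_mem (D.A_comm hd.1) (powSub_le _ _ hm) ha)
    exact le_centralizer_of_mem (D.A_comm hh) this

theorem L2_pos : π.B ≤ π.L2 := Nat.le_add_left _ _

/-- Dichotomy. -/
theorem dichotomy {d d' : G} (hd : PreTor π d) (hd' : PreTor π d') (h : Rel π d d') :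
    Nat.card (centralizer ({d} : Set G)) ≤
      π.K * Nat.card ↥(centralizer ({d} : Set G) ⊓ centralizer ({d'} : Set G)) := by
  set H := centralizer ({d} : Set G) ⊓ centralizer ({d'} : Set G) with hH
  have h1 : Nat.card H ≤ π.B * Nat.card ↥(D.A hd.1 ⊓ H) := D.card_le_A hd.1 inf_le_left
  have h2 : Nat.card ↥(D.A hd.1 ⊓ H) ≤ π.B * Nat.card ↥(D.A hd'.1 ⊓ (D.A hd.1 ⊓ H)) :=
    D.card_le_A hd'.1 (inf_le_right.trans inf_le_right)
  set H0 := D.A hd'.1 ⊓ (D.A hd.1 ⊓ H) with hH0
  have hH0c : IsMulCommutative H0 := comm_of_le (D.A_comm hd'.1) inf_le_left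
  obtain ⟨x, hx, hxc⟩ := exists_noncentral D.roots hH0c (Nat.mul_pos π.e_pos π.e_pos) (by
    have h3 : π.L2 < π.B * (π.B * Nat.card H0) := lt_of_lt_of_le h (h1.trans (Nat.mul_le_mul_left _ h2))
    have h4 : π.B ^ 2 * π.c2 * π.z0 < π.B ^ 2 * Nat.card H0 := by
      unfold Par.L2 at h3; nlinarith
    rw [mul_assoc] at h4
    exact lt_of_le_of_lt (Nat.mul_le_mul_left _ D.center_le) (Nat.lt_of_mul_lt_mul_left h4))
  obtain ⟨a, ha, hax⟩ := exists_of_mem_powSub hH0c hx
  have hmem : ∀ A : Subgroup G, a ∈ A → x ∈ powSub A π.e := fun A haA => by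
    have := pow_mem_powSub (A.pow_mem haA π.e) π.e
    rwa [← pow_mul, hax] at this
  obtain ⟨n1, -⟩ := D.near hd hxc (hmem _ ((Subgroup.mem_inf.1 (Subgroup.mem_inf.1 ha).2).1))
  obtain ⟨-, n2⟩ := D.near hd' hxc (hmem _ (Subgroup.mem_inf.1 ha).1)
  have hp := card_mul_card_le (C := centralizer ({x} : Set G))
    (H₁ := centralizer ({d} : Set G) ⊓ centralizer ({x} : Set G))
    (H₂ := centralizer ({d'} : Set G) ⊓ centralizer ({x} : Set G)) inf_le_right inf_le_right
  have hle : Nat.card ↥((centralizer ({d'} : Set G) ⊓ centralizer ({x} : Set G)) ⊓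
      (centralizer ({d} : Set G) ⊓ centralizer ({x} : Set G))) ≤ Nat.card H :=
    card_le_of_le (le_inf (inf_le_right.trans inf_le_left) (inf_le_left.trans inf_le_left))
  set I1 := Nat.card ↥(centralizer ({d} : Set G) ⊓ centralizer ({x} : Set G))
  set I2 := Nat.card ↥(centralizer ({d'} : Set G) ⊓ centralizer ({x} : Set G))
  have h5 : I1 * I2 ≤ π.B * I2 * Nat.card H := hp.trans (Nat.mul_le_mul n2 hle)
  have hI2 : 0 < I2 := Nat.card_pos
  have h6 : I1 ≤ π.B * Nat.card H :=
    Nat.le_of_mul_le_mul_right (h5.trans_eq (by ring)) hI2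
  calc _ ≤ π.B * I1 := n1
    _ ≤ π.B * (π.B * Nat.card H) := Nat.mul_le_mul_left _ h6
    _ = _ := by rw [Par.K]; ring

theorem trans' {a b c : G} (ha : PreTor π a) (hb : PreTor π b) (hc : PreTor π c)
    (hab : Rel π a b) (hbc : Rel π b c)
    (hbig : π.K ^ 2 * π.L2 < Nat.card (centralizer ({a} : Set G))) : Rel π a c := by
  have h1 := D.dichotomy ha hb hab
  have h2 := D.dichotomy hb hc hbc
  set Ca := centralizer ({a} : Set G)
  set Cb := centralizer ({b} : Set G)
  set Cc := centralizer ({c} : Set G)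
  have hp := card_mul_card_le (C := Cb) (H₁ := Ca ⊓ Cb) (H₂ := Cb ⊓ Cc) inf_le_right inf_le_left
  have hle : Nat.card ↥(Cb ⊓ Cc ⊓ (Ca ⊓ Cb)) ≤ Nat.card ↥(Ca ⊓ Cc) :=
    card_le_of_le (le_inf (inf_le_right.trans inf_le_left) (inf_le_left.trans inf_le_right))
  have h5 : Nat.card ↥(Ca ⊓ Cb) * Nat.card ↥(Cb ⊓ Cc) ≤
      π.K * Nat.card ↥(Ca ⊓ Cc) * Nat.card ↥(Cb ⊓ Cc) :=
    hp.trans ((Nat.mul_le_mul h2 hle).trans_eq (by ring))
  have h6 := Nat.le_of_mul_le_mul_right h5 Nat.card_pos
  have h7 : π.K ^ 2 * π.L2 < π.K ^ 2 * Nat.card ↥(Ca ⊓ Cc) :=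
    lt_of_lt_of_le hbig ((h1.trans (Nat.mul_le_mul_left _ h6)).trans_eq (by ring))
  exact Nat.lt_of_mul_lt_mul_left h7

theorem L1_ge {d : G} (hd : Tor π d) :
    π.K ^ 2 * π.L2 < Nat.card (centralizer ({d} : Set G)) ∧
    π.B * π.L2 < Nat.card (centralizer ({d} : Set G)) ∧
    π.B * π.R π.fT * π.L3 < Nat.card (centralizer ({d} : Set G)) ∧
    π.B * π.R π.f * π.z0 < Nat.card (centralizer ({d} : Set G)) := by
  have h := hd.2
  unfold Par.L1 at h
  refine ⟨?_, ?_, ?_, ?_⟩ <;> omega

theorem rel_refl {d : G} (hd : Tor π d) : Rel π d d := by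
  obtain ⟨-, h, -, -⟩ := D.L1_ge hd
  unfold Rel
  rw [inf_idem]
  exact lt_of_le_of_lt (Nat.le_mul_of_pos_left _ D.B_pos) h

theorem rel_trans {a b c : G} (ha : Tor π a) (hb : PreTor π b) (hc : PreTor π c)
    (hab : Rel π a b) (hbc : Rel π b c) : Rel π a c :=
  D.trans' ha.1 hb hc hab hbc (D.L1_ge ha).1

end JData

/-- The class of an element. -/
def cls (π : Par) (d : G) : Set G := {d' | Tor π d' ∧ Rel π d d'}

/-- The conjugate of a set. -/
def cset (g : G) (c : Set G) : Set G := (fun x => g * x * g⁻¹) '' c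

theorem cls_conj (g d : G) : cls π (g * d * g⁻¹) = cset g (cls π d) := by
  ext x
  constructor
  · rintro ⟨hx, hr⟩
    refine ⟨g⁻¹ * x * g, ⟨?_, ?_⟩, by group⟩
    · have := tor_conj hx g⁻¹; rwa [inv_inv] at this
    · rw [← rel_conj g]
      convert hr using 2; group
  · rintro ⟨y, ⟨hy, hr⟩, rfl⟩
    exact ⟨tor_conj hy g, (rel_conj g).2 hr⟩

/-- The torus of a class. -/
def Tsub (π : Par) (c : Set G) : Subgroup G := powSub (centralizer c) π.e

/-- The stabiliser of a class. -/
def Nsub (c : Set G) : Subgroup G where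
  carrier := {g | cset g c = c}
  one_mem' := by simp [cset]
  mul_mem' := fun {a b} ha hb => by
    show cset (a * b) c = c
    have : cset (a * b) c = cset a (cset b c) := by
      simp only [cset, Set.image_image]
      congr 1; funext x; group
    rw [this, show cset b c = c from hb]; exact ha
  inv_mem' := fun {a} ha => by
    show cset a⁻¹ c = c
    conv_lhs => rw [← show cset a c = c from ha]
    simp only [cset, Set.image_image]
    convert Set.image_id c using 2
    simp [mul_assoc]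

end H18.BF
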